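import Cfsg.Agent.SchmidtMax.Linear
import Mathlib

/-!
The Schmidt group of largest order.
-/

set_option autoImplicit false
set_option linter.style.haveILetI false
set_option linter.unusedSectionVars false

open Subgroup Polynomial
open scoped Pointwise commutatorElement

namespace Cfsg.Agent.SchmidtMax

/-- Transport of a datum. -/
def Datum.map {p q r : ℕ} {X Y : Type*} [Group X] [Group Y] (d : Datum p q r X) (e : X ≃* Y) :
    Datum p q r Y where
  P := d.P.map e.toMonoidHom
  x := e d.x
  normal := Subgroup.Normal.map d.normal _ e.surjective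
  pgroup := d.pgroup.map _
  ne_bot h := d.ne_bot ((map_eq_bot_iff_of_injective _ e.injective).1 h)
  order_x := by rw [MulEquiv.orderOf_eq, d.order_x]
  sup_top := by
    have h := congrArg (Subgroup.map e.toMonoidHom) d.sup_top
    rw [Subgroup.map_sup, MonoidHom.map_zpowers, map_top_of_surjective _ e.surjective] at h
    exact h
  xq_center := by
    refine mem_center_iff.2 fun y => ?_
    obtain ⟨x', rfl⟩ := e.surjective y
    rw [← map_pow, ← map_mul, ← map_mul, mem_center_iff.1 d.xq_center x']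
  comm_eq := by
    have h := congrArg (Subgroup.map e.toMonoidHom) d.comm_eq
    rw [map_commutator, MonoidHom.map_zpowers] at h
    exact h
  comm_mem := by
    rintro _ ⟨a, ha, rfl⟩ _ ⟨b, hb, rfl⟩
    refine mem_center_iff.2 fun y => ?_
    obtain ⟨x', rfl⟩ := e.surjective y
    rw [← map_commutatorElement]
    show e x' * e _ = e _ * e x'
    rw [← map_mul, ← map_mul, mem_center_iff.1 (d.comm_mem a ha b hb) x']
  pth_mem := by
    rintro _ ⟨a, ha, rfl⟩
    refine mem_center_iff.2 fun y => ?_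
    obtain ⟨x', rfl⟩ := e.surjective y
    rw [← map_pow]
    show e x' * e _ = e _ * e x'
    rw [← map_mul, ← map_mul, mem_center_iff.1 (d.pth_mem a ha) x']
  irr W hW hDW hinv := by
    rcases d.irr (W.comap e.toMonoidHom)
      (fun w hw => by
        obtain ⟨a, ha, hae⟩ := hW hw
        rwa [← e.injective hae])
      (fun w hw => hDW ⟨mem_map_of_mem _ hw.1, mem_center_iff.2 fun y => by
        obtain ⟨x', rfl⟩ := e.surjective y
        show e x' * e w = e w * e x'
        rw [← map_mul, ← map_mul, mem_center_iff.1 hw.2 x']⟩)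
      (fun w hw => by
        show e (d.x * w * d.x⁻¹) ∈ W
        rw [map_mul, map_mul, map_inv]
        exact hinv _ hw) with h | h
    · left
      refine le_antisymm (fun w hw => ?_) hDW
      obtain ⟨a, rfl⟩ := e.surjective w
      have ha : a ∈ W.comap e.toMonoidHom := hw
      rw [h] at ha
      refine ⟨mem_map_of_mem _ ha.1, mem_center_iff.2 fun y => ?_⟩
      obtain ⟨x', rfl⟩ := e.surjective y
      rw [← map_mul, ← map_mul, mem_center_iff.1 ha.2 x']
    · right
      rw [← h, map_comap_eq_self_of_surjective e.surjective]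

theorem comm_aux {H : Type*} [Group H] (a b : H) : ⁅a, b⁆ = a * (b * a * b⁻¹)⁻¹ := by
  rw [commutatorElement_def]; group

section Build

variable {p q r : ℕ} [hp : Fact p.Prime] [hq : Fact q.Prime] {f : (ZMod p)[X]}
  [hf : Fact (Irreducible f)]

local notation "𝕂" => AdjoinRoot f
local notation "ζ" => AdjoinRoot.root f

theorem exists_datum_of_action (hpq : p ≠ q) (hr : 1 ≤ r) (hd : f ∣ cyclotomic q (ZMod p))
    (U : Type) [Group U] [Finite U] (hU : IsPGroup p U)
    (α : MulAut U) (π : U →* Multiplicative 𝕂) (hπs : Function.Surjective π)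
    (hπα : ∀ u, Multiplicative.toAdd (π (α u)) = ζ * Multiplicative.toAdd (π u))
    (hαq : α ^ q = 1) (hker : ∀ c, π c = 1 → α c = c ∧ ∀ u, u * c = c * u)
    (hkc : ∀ c : U, π c = 1 → ∃ u v : U, c = ⁅u, v⁆) :
    ∃ (G : Type) (_ : Group G) (_ : Finite G) (_ : Datum p q r G),
      Nat.card G = Nat.card U * q ^ r := by
  classical
  haveI : NeZero (q ^ r) := ⟨pow_ne_zero _ hq.out.ne_zero⟩
  have hαqr : α ^ (q ^ r) = 1 := by
    obtain ⟨e, he⟩ := dvd_pow_self q (show r ≠ 0 by omega)
    rw [he, pow_mul, hαq, one_pow]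
  let φ : Multiplicative (ZMod (q ^ r)) →* MulAut U :=
    { toFun := fun i => α ^ (Multiplicative.toAdd i).val
      map_one' := by simp
      map_mul' := fun a b => by
        rw [toAdd_mul, ZMod.val_add, ← pow_add, ← pow_eq_pow_mod _ hαqr] }
  let G := U ⋊[φ] Multiplicative (ZMod (q ^ r))
  haveI : Finite G := Finite.of_equiv _ SemidirectProduct.equivProd.symm
  let ι : U →* G := SemidirectProduct.inl
  let g : Multiplicative (ZMod (q ^ r)) := Multiplicative.ofAdd 1
  let x : G := SemidirectProduct.inr g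
  have hφg : φ g = α := by
    show α ^ (1 : ZMod (q ^ r)).val = α
    haveI : Fact (1 < q ^ r) := ⟨Nat.one_lt_pow (by omega) hq.out.one_lt⟩
    rw [ZMod.val_one, pow_one]
  have hxu : ∀ u, x * ι u * x⁻¹ = ι (α u) := fun u => by
    rw [← hφg]; exact ((SemidirectProduct.inl_aut (φ := φ) g u).trans (by rw [map_inv])).symm
  let P : Subgroup G := ι.range
  have hPn : P.Normal := by
    show (SemidirectProduct.inl : U →* G).range.Normal
    rw [SemidirectProduct.range_inl_eq_ker_rightHom]; infer_instance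
  have htop : P ⊔ zpowers x = ⊤ := by
    rw [eq_top_iff]
    intro y _
    rw [← SemidirectProduct.inl_left_mul_inr_right y]
    refine mul_mem (mem_sup_left ⟨_, rfl⟩) (mem_sup_right ?_)
    obtain ⟨n, hn⟩ : ∃ n : ℕ, g ^ n = y.right :=
      ⟨(Multiplicative.toAdd y.right).val, by
        apply Multiplicative.toAdd.injective
        rw [toAdd_pow, toAdd_ofAdd, nsmul_one, ZMod.natCast_zmod_val]⟩
    rw [← hn, map_pow]
    exact npow_mem_zpowers x n
  have hcen : ∀ c : G, (∀ u, ι u * c = c * ι u) → x * c = c * x → c ∈ center G := by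
    intro c h1 h2
    have h : (⊤ : Subgroup G) ≤ centralizer {c} := by
      rw [← htop]
      refine sup_le ?_ (zpowers_le.2 (mem_centralizer_singleton_iff.2 h2))
      rintro _ ⟨u, rfl⟩
      exact mem_centralizer_singleton_iff.2 (h1 u)
    exact mem_center_iff.2 fun y => mem_centralizer_singleton_iff.1 (h (mem_top y))
  have hkcen : ∀ c, π c = 1 → ι c ∈ center G := fun c hc => by
    refine hcen _ (fun u => ?_) ?_
    · rw [← map_mul, ← map_mul, (hker c hc).2 u]
    · have := hxu c
      rw [(hker c hc).1, mul_inv_eq_iff_eq_mul] at this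
      exact this
  have hprim := root_isPrimitive hpq hd
  have hζ1 : ζ ≠ 1 := hprim.ne_one hq.out.one_lt
  have hcenker : ∀ u, ι u ∈ center G → π u = 1 := by
    intro u hu
    have h1 : α u = u := SemidirectProduct.inl_injective (φ := φ) <| by
      show ι (α u) = ι u
      rw [← hxu, mem_center_iff.1 hu x, mul_inv_cancel_right]
    have h2 := hπα u
    rw [h1] at h2
    apply Multiplicative.toAdd.injective
    rw [toAdd_one]
    by_contra h0
    exact hζ1 (mul_right_cancel₀ h0 (h2.symm.trans (one_mul _).symm))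
  -- invariant subgroups above the kernel
  have hinvtop : ∀ W : Subgroup G, W ≤ P → (∀ c, π c = 1 → ι c ∈ W) →
      (∀ w ∈ W, x * w * x⁻¹ ∈ W) → ∀ u₀, π u₀ ≠ 1 → ι u₀ ∈ W → W = P := by
    intro W hW hkW hinv u₀ hu₀ hu₀W
    refine le_antisymm hW ?_
    rintro _ ⟨u, rfl⟩
    let S : AddSubgroup 𝕂 :=
      { carrier := {z | ∃ w, ι w ∈ W ∧ Multiplicative.toAdd (π w) =
          z * Multiplicative.toAdd (π u₀)}
        zero_mem' := ⟨1, by rw [map_one]; exact W.one_mem, by simp⟩
        add_mem' := by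
          rintro a b ⟨w, hw, hwa⟩ ⟨w', hw', hwb⟩
          exact ⟨w * w', by rw [map_mul]; exact W.mul_mem hw hw', by
            rw [map_mul, toAdd_mul, hwa, hwb, add_mul]⟩
        neg_mem' := by
          rintro a ⟨w, hw, hwa⟩
          exact ⟨w⁻¹, by rw [map_inv]; exact W.inv_mem hw, by
            rw [map_inv, toAdd_inv, hwa, neg_mul]⟩ }
    have hS : ∀ i : ℕ, ζ ^ i ∈ S := by
      intro i
      induction i with
      | zero => exact ⟨u₀, hu₀W, by rw [pow_zero, one_mul]⟩
      | succ i ih =>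
        obtain ⟨w, hw, hwe⟩ := ih
        exact ⟨α w, by rw [← hxu]; exact hinv _ hw, by rw [hπα, hwe, pow_succ', mul_assoc]⟩
    have h0 : Multiplicative.toAdd (π u₀) ≠ 0 := fun e =>
      hu₀ (Multiplicative.toAdd.injective (e.trans toAdd_one.symm))
    obtain ⟨w, hw, hwe⟩ := addSubgroup_eq_top S hS
      (Multiplicative.toAdd (π u) / Multiplicative.toAdd (π u₀))
    rw [div_mul_cancel₀ _ h0] at hwe
    have hwu : π w = π u := Multiplicative.toAdd.injective hwe
    have := W.mul_mem hw (hkW (w⁻¹ * u) (by rw [map_mul, map_inv, hwu, inv_mul_cancel]))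
    rwa [← map_mul, mul_inv_cancel_left] at this
  obtain ⟨u₁, hu₁⟩ := hπs (Multiplicative.ofAdd 1)
  have hu₁' : π u₁ ≠ 1 := by
    rw [hu₁]
    intro h
    exact one_ne_zero (congrArg Multiplicative.toAdd h : (1 : 𝕂) = 0)
  have hordx : orderOf x = q ^ r := by
    rw [orderOf_injective SemidirectProduct.inr SemidirectProduct.inr_injective,
      orderOf_ofAdd_eq_addOrderOf, ZMod.addOrderOf_one]
  have hxq : x ^ q ∈ center G := by
    refine hcen _ (fun u => ?_) (Commute.self_pow x q).eq
    have h : ∀ n : ℕ, x ^ n * ι u * (x ^ n)⁻¹ = ι ((α ^ n) u) := by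
      intro n
      induction n with
      | zero => simp
      | succ n ih =>
        rw [pow_succ' α, MulAut.mul_apply, ← hxu, ← ih]
        simp [pow_succ', mul_assoc]
    have h' := h q
    rw [hαq, MulAut.one_apply] at h'
    exact (mul_inv_eq_iff_eq_mul (G := G)).1 h' |>.symm
  have hpi : ∀ a b : U, π ⁅a, b⁆ = 1 := fun a b => by
    rw [map_commutatorElement, commutatorElement_eq_one_iff_mul_comm, mul_comm]
  have hcomm : ⁅P, zpowers x⁆ = P := by
    haveI := hPn
    set T := ⁅P, zpowers x⁆ with hT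
    have hTP : T ≤ P := commutator_le_left P (zpowers x)
    have hTn : T.Normal := normalizer_eq_top_iff.1 (top_le_iff.1 (htop.symm.le.trans
      (sup_le (Coprime.le_normalizer_commutator_left _ _)
        (Coprime.le_normalizer_commutator_right _ _))))
    -- `T` covers the quotient
    have hcov : ∀ u, ∃ c, π c = 1 ∧ ι (u * c) ∈ T := by
      intro u
      obtain ⟨v, hv⟩ := hπs (Multiplicative.ofAdd (Multiplicative.toAdd (π u) / (1 - ζ)))
      have h1 : ⁅ι v, x⁆ = ι (v * (α v)⁻¹) := by
        rw [map_mul, map_inv, ← hxu]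
        exact comm_aux (ι v) x
      have h2 : Multiplicative.toAdd (π (v * (α v)⁻¹)) = Multiplicative.toAdd (π u) := by
        rw [map_mul, map_inv, toAdd_mul, toAdd_inv, hπα, hv, toAdd_ofAdd]
        have : (1 : 𝕂) - ζ ≠ 0 := sub_ne_zero.2 hζ1.symm
        field_simp
        ring
      refine ⟨u⁻¹ * (v * (α v)⁻¹), ?_, ?_⟩
      · rw [map_mul, Multiplicative.toAdd.injective h2, map_inv, inv_mul_cancel]
      · rw [mul_inv_cancel_left, ← h1]
        exact commutator_mem_commutator ⟨v, rfl⟩ (mem_zpowers x)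
    refine le_antisymm hTP ?_
    have hkT : ∀ c, π c = 1 → ι c ∈ T := by
      intro c hc
      obtain ⟨u, v, rfl⟩ := hkc c hc
      obtain ⟨a, ha, hau⟩ := hcov u
      obtain ⟨b, hb, hbv⟩ := hcov v
      have e : ⁅ι (u * a), ι (v * b)⁆ = ι ⁅u, v⁆ := by
        rw [← map_commutatorElement]
        congr 1
        have ha' := (hker a ha).2
        have hb' := (hker b hb).2
        simp only [commutatorElement_def, mul_inv_rev]
        calc u * a * (v * b) * (a⁻¹ * u⁻¹) * (b⁻¹ * v⁻¹)
            = u * (a * (v * b)) * a⁻¹ * u⁻¹ * b⁻¹ * v⁻¹ := by group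
          _ = u * v * (b * u⁻¹) * b⁻¹ * v⁻¹ := by rw [← ha' (v * b)]; group
          _ = u * v * u⁻¹ * v⁻¹ := by rw [← hb' u⁻¹]; group
      rw [← e, commutatorElement_def]
      exact T.mul_mem (T.mul_mem (T.mul_mem hau hbv) (T.inv_mem hau)) (T.inv_mem hbv)
    rintro _ ⟨u, rfl⟩
    obtain ⟨c, hc, h⟩ := hcov u
    have := T.mul_mem h (T.inv_mem (hkT c hc))
    rwa [← map_inv, ← map_mul, mul_inv_cancel_right] at this
  refine ⟨G, inferInstance, inferInstance,
    { P := P
      x := x
      normal := hPn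
      pgroup := hU.of_equiv (MonoidHom.ofInjective SemidirectProduct.inl_injective)
      ne_bot := fun h => hu₁' (by
        have : ι u₁ ∈ P := ⟨u₁, rfl⟩
        rw [h, mem_bot] at this
        exact hcenker u₁ (this ▸ one_mem _))
      order_x := hordx
      sup_top := htop
      xq_center := hxq
      comm_eq := hcomm
      comm_mem := ?_
      pth_mem := ?_
      irr := ?_ }, ?_⟩
  · rintro _ ⟨a, rfl⟩ _ ⟨b, rfl⟩
    rw [← map_commutatorElement]
    exact hkcen _ (hpi a b)
  · rintro _ ⟨a, rfl⟩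
    rw [← map_pow]
    refine hkcen _ (Multiplicative.toAdd.injective ?_)
    rw [map_pow, toAdd_pow, toAdd_one, nsmul_eq_mul]
    haveI : CharP 𝕂 p := charP_of_injective_algebraMap (algebraMap (ZMod p) 𝕂).injective p
    rw [CharP.cast_eq_zero, zero_mul]
  · intro W hW hDW hinv
    by_cases h : ∃ u, π u ≠ 1 ∧ ι u ∈ W
    · obtain ⟨u, hu, huW⟩ := h
      exact Or.inr (hinvtop W hW (fun c hc => hDW ⟨⟨c, rfl⟩, hkcen c hc⟩) hinv u hu huW)
    · push Not at h
      refine Or.inl (le_antisymm (fun w hw => ?_) hDW)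
      obtain ⟨u, rfl⟩ := hW hw
      refine ⟨⟨u, rfl⟩, hkcen u ?_⟩
      by_contra hne
      exact h u hne hw
  · show Nat.card G = _
    rw [Nat.card_congr (SemidirectProduct.equivProd (φ := φ)), Nat.card_prod]
    congr 1
    exact Nat.card_zmod _

end Build

/-- The unitary `p`-group of order `Q³`. -/
@[ext]
structure UnitaryUnip (F : Type) [Field F] (σ : {σ : F →+* F // ∀ z, σ (σ z) = z}) where
  v : F
  w : F
  rel : w + σ.1 w = v * σ.1 v

namespace UnitaryUnip

variable {F : Type} [Field F] {σ : {σ : F →+* F // ∀ z, σ (σ z) = z}}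

instance : Mul (UnitaryUnip F σ) :=
  ⟨fun a b => ⟨a.v + b.v, a.w + b.w + σ.1 a.v * b.v, by
    simp only [map_add, map_mul, σ.2]
    linear_combination a.rel + b.rel⟩⟩

instance : One (UnitaryUnip F σ) := ⟨⟨0, 0, by simp⟩⟩

instance : Inv (UnitaryUnip F σ) :=
  ⟨fun a => ⟨-a.v, σ.1 a.w, by
    simp only [map_neg, σ.2, neg_mul_neg]
    linear_combination a.rel⟩⟩

theorem mul_v (a b : UnitaryUnip F σ) : (a * b).v = a.v + b.v := rfl
theorem mul_w (a b : UnitaryUnip F σ) : (a * b).w = a.w + b.w + σ.1 a.v * b.v := rfl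
theorem one_v : (1 : UnitaryUnip F σ).v = 0 := rfl
theorem one_w : (1 : UnitaryUnip F σ).w = 0 := rfl
theorem inv_v (a : UnitaryUnip F σ) : a⁻¹.v = -a.v := rfl
theorem inv_w (a : UnitaryUnip F σ) : a⁻¹.w = σ.1 a.w := rfl

instance : Group (UnitaryUnip F σ) where
  mul_assoc a b c := by
    ext <;> simp only [mul_v, mul_w, map_add] <;> ring
  one_mul a := by ext <;> simp [mul_v, mul_w, one_v, one_w]
  mul_one a := by ext <;> simp [mul_v, mul_w, one_v, one_w]
  inv_mul_cancel a := by
    ext
    · simp [mul_v, inv_v, one_v]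
    · simp only [mul_w, inv_w, inv_v, one_w, map_neg]
      linear_combination a.rel

instance [Finite F] : Finite (UnitaryUnip F σ) :=
  Finite.of_injective (fun a => (a.v, a.w)) (fun a b h => by
    obtain ⟨h1, h2⟩ := Prod.ext_iff.1 h
    ext <;> assumption)

/-- The torus automorphism. -/
def scale (l : F) (hl : σ.1 l * l = 1) : MulAut (UnitaryUnip F σ) where
  toFun a := ⟨l * a.v, a.w, by rw [map_mul]; linear_combination a.rel - a.v * σ.1 a.v * hl⟩
  invFun a := ⟨σ.1 l * a.v, a.w, by
    rw [map_mul, σ.2]; linear_combination a.rel - a.v * σ.1 a.v * hl⟩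
  left_inv a := by
    ext
    · show σ.1 l * (l * a.v) = a.v
      rw [← mul_assoc, hl, one_mul]
    · rfl
  right_inv a := by
    ext
    · show l * (σ.1 l * a.v) = a.v
      rw [← mul_assoc, mul_comm l, hl, one_mul]
    · rfl
  map_mul' a b := by
    ext
    · simp only [mul_v]; ring
    · simp only [mul_w, map_mul]
      linear_combination -(σ.1 a.v * b.v) * hl

theorem scale_pow (l : F) (hl : σ.1 l * l = 1) (n : ℕ) (a : UnitaryUnip F σ) :
    ((scale l hl ^ n) a).v = l ^ n * a.v ∧ ((scale l hl ^ n) a).w = a.w := by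
  induction n with
  | zero => simp
  | succ n ih =>
    rw [pow_succ', MulAut.mul_apply]
    refine ⟨?_, ih.2⟩
    show l * _ = _
    rw [ih.1, pow_succ']; ring

/-- The projection. -/
def proj : UnitaryUnip F σ →* Multiplicative F where
  toFun a := Multiplicative.ofAdd a.v
  map_one' := rfl
  map_mul' _ _ := rfl

theorem comm_w (a b : UnitaryUnip F σ) :
    ⁅a, b⁆.v = 0 ∧ ⁅a, b⁆.w = σ.1 a.v * b.v - σ.1 b.v * a.v := by
  constructor
  · simp only [commutatorElement_def, mul_v, inv_v]; ring
  · simp only [commutatorElement_def, mul_v, mul_w, inv_v, inv_w, map_add, map_neg]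
    linear_combination a.rel + b.rel

end UnitaryUnip

section Exists

variable {p q r : ℕ} [hp : Fact p.Prime] [hq : Fact q.Prime] {f : (ZMod p)[X]}
  [hf : Fact (Irreducible f)]

local notation "𝕂" => AdjoinRoot f
local notation "ζ" => AdjoinRoot.root f

theorem exists_max (hpq : p ≠ q) (hr : 1 ≤ r) (hd : f ∣ cyclotomic q (ZMod p)) :
    ∃ (G : Type) (_ : Group G) (_ : Finite G) (_ : Datum p q r G),
      Nat.card G = p ^ (if orderOf (p : ZMod q) % 2 = 1 then orderOf (p : ZMod q)
        else 3 * orderOf (p : ZMod q) / 2) * q ^ r := by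
  set a := orderOf (p : ZMod q) with ha
  have hK : Nat.card 𝕂 = p ^ a := by rw [natCard_adjoinRoot, natDegree_eq hpq hd]
  have hprim := root_isPrimitive hpq hd
  haveI : CharP 𝕂 p := charP_of_injective_algebraMap (algebraMap (ZMod p) 𝕂).injective p
  rcases Nat.mod_two_eq_zero_or_one a with he | ho
  swap
  · rw [if_pos ho, ← hK]
    let α : MulAut (Multiplicative 𝕂) :=
      AddEquiv.toMultiplicative
        ({ toFun := fun z => ζ * z
           invFun := fun z => ζ⁻¹ * z
           left_inv := fun z => inv_mul_cancel_left₀ (hprim.ne_zero hq.out.ne_zero) z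
           right_inv := fun z => mul_inv_cancel_left₀ (hprim.ne_zero hq.out.ne_zero) z
           map_add' := fun z w => mul_add _ _ _ } : 𝕂 ≃+ 𝕂)
    have hα : ∀ (n : ℕ) z, Multiplicative.toAdd ((α ^ n) z) = ζ ^ n * Multiplicative.toAdd z := by
      intro n z
      induction n with
      | zero => simp
      | succ n ih =>
        rw [pow_succ' α, MulAut.mul_apply, pow_succ' (AdjoinRoot.root f), mul_assoc, ← ih]
        rfl
    have hU : IsPGroup p (Multiplicative 𝕂) := IsPGroup.of_card (n := a) hK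
    obtain ⟨G, i1, i2, d, hG⟩ := exists_datum_of_action (r := r) hpq hr hd (Multiplicative 𝕂) hU α
      (MonoidHom.id _) (fun z => ⟨z, rfl⟩) (fun _ => rfl)
      (MulEquiv.ext fun z => Multiplicative.toAdd.injective (by
        rw [hα, hprim.pow_eq_one, one_mul]; rfl))
      (fun c hc => by
        change c = 1 at hc
        subst hc
        exact ⟨map_one _, fun u => by rw [mul_one, one_mul]⟩)
      (fun c hc => ⟨1, 1, by
        change c = 1 at hc
        rw [hc, commutatorElement_self]⟩)
    exact ⟨G, i1, i2, d, by rw [hG]; rfl⟩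
  obtain ⟨b, hb⟩ : 2 ∣ a := Nat.dvd_of_mod_eq_zero he
  rw [if_neg (by omega), show 3 * a / 2 = b + a by omega]
  haveI : ExpChar 𝕂 p := ExpChar.prime hp.out
  haveI : Fintype 𝕂 := Fintype.ofFinite _
  have hfr : ∀ z : 𝕂, z ^ (p ^ b * p ^ b) = z := fun z => by
    rw [← pow_add, ← two_mul, ← hb, ← hK, Nat.card_eq_fintype_card, FiniteField.pow_card]
  let σ : {σ : 𝕂 →+* 𝕂 // ∀ z, σ (σ z) = z} :=
    ⟨iterateFrobenius 𝕂 p b, fun z => by
      rw [iterateFrobenius_def, iterateFrobenius_def, ← pow_mul, hfr]⟩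
  have hσdef : ∀ z, σ.1 z = z ^ p ^ b := fun z => iterateFrobenius_def _ _ _
  have hp0 : (p : ZMod q) ≠ 0 := fun h => hpq
    ((Nat.prime_dvd_prime_iff_eq hq.out hp.out).1 ((ZMod.natCast_eq_zero_iff _ _).1 h)).symm
  have ha0 : 0 < a := ha ▸ orderOf_pos_iff.2 (isOfFinOrder_iff_pow_eq_one.2
    ⟨q - 1, Nat.sub_pos_of_lt hq.out.one_lt, ZMod.pow_card_sub_one_eq_one hp0⟩)
  have hb1 : 1 < p ^ b := Nat.one_lt_pow (by omega) hp.out.one_lt
  have hσζ : σ.1 ζ * ζ = 1 := by
    rw [hσdef, ← pow_succ, hprim.pow_eq_one_iff_dvd, ← ZMod.natCast_eq_zero_iff, Nat.cast_add,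
      Nat.cast_pow, Nat.cast_one]
    have h2 : ((p : ZMod q) ^ b) * ((p : ZMod q) ^ b) = 1 := by
      rw [← pow_add, ← two_mul, ← hb, ha, pow_orderOf_eq_one]
    rw [(mul_self_eq_one_iff.1 h2).resolve_left fun h1 => by
      have := Nat.le_of_dvd (by omega) (orderOf_dvd_of_pow_eq_one h1)
      omega]
    exact neg_add_cancel 1
  -- counting the fixed field and the kernel of the trace
  let tr : 𝕂 →+ 𝕂 := AddMonoidHom.id 𝕂 + σ.1.toAddMonoidHom
  let dl : 𝕂 →+ 𝕂 := AddMonoidHom.id 𝕂 - σ.1.toAddMonoidHom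
  have hroots : ∀ (c : 𝕂) (S : AddSubgroup 𝕂), (∀ z ∈ S, z ^ p ^ b + c * z = 0) →
      Nat.card S ≤ p ^ b := by
    intro c S hS
    classical
    let P : Polynomial 𝕂 := Polynomial.X ^ p ^ b + Polynomial.C c * Polynomial.X
    have hP : P.natDegree = p ^ b := by
      rw [natDegree_add_eq_left_of_natDegree_lt, natDegree_X_pow]
      rw [natDegree_X_pow]
      exact (natDegree_C_mul_le _ _).trans_lt (by rw [natDegree_X]; exact hb1)
    have hP0 : P ≠ 0 := fun e => by rw [e, natDegree_zero] at hP; omega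
    calc Nat.card S ≤ Nat.card P.roots.toFinset := by
          refine Nat.card_le_card_of_injective (fun z => ⟨(z : 𝕂), ?_⟩)
            (fun z w e => Subtype.ext (congrArg Subtype.val e :))
          rw [Multiset.mem_toFinset, mem_roots hP0, IsRoot, eval_add, eval_pow, eval_X, eval_mul,
            eval_C, eval_X]
          exact hS _ z.2
      _ ≤ P.natDegree := by
          rw [Nat.card_eq_finsetCard]
          exact (Multiset.toFinset_card_le _).trans (card_roots' P)
      _ = p ^ b := hP
  have hktr : Nat.card tr.ker ≤ p ^ b := hroots 1 _ fun z hz => by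
    rw [one_mul, add_comm, ← hσdef]; exact hz
  have hkdl : Nat.card dl.ker ≤ p ^ b := hroots (-1) _ fun z hz => by
    have : z - σ.1 z = 0 := hz
    rw [← hσdef]; linear_combination -this
  have hdlk : dl.range ≤ tr.ker := by
    rintro _ ⟨z, rfl⟩
    show (z - σ.1 z) + σ.1 (z - σ.1 z) = 0
    rw [map_sub, σ.2]; ring
  have htrk : tr.range ≤ dl.ker := by
    rintro _ ⟨z, rfl⟩
    show (z + σ.1 z) - σ.1 (z + σ.1 z) = 0
    rw [map_add, σ.2]; ring
  have hsplit : ∀ φ : 𝕂 →+ 𝕂, p ^ b * p ^ b = Nat.card φ.range * Nat.card φ.ker := fun φ => by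
    rw [← pow_add, ← two_mul, ← hb, ← hK,
      AddSubgroup.card_eq_card_quotient_mul_card_addSubgroup φ.ker,
      Nat.card_congr (QuotientAddGroup.quotientKerEquivRange φ).toEquiv]
  have hbpos := pow_pos hp.out.pos b
  have hrdl : p ^ b ≤ Nat.card dl.range := Nat.le_of_mul_le_mul_right
    ((hsplit dl).le.trans (Nat.mul_le_mul_left _ hkdl)) hbpos
  have hrtr : p ^ b ≤ Nat.card tr.range := Nat.le_of_mul_le_mul_right
    ((hsplit tr).le.trans (Nat.mul_le_mul_left _ hktr)) hbpos
  have hdeq : dl.range = tr.ker := AddSubgroup.eq_of_le_of_card_ge hdlk (hktr.trans hrdl)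
  have hteq : tr.range = dl.ker := AddSubgroup.eq_of_le_of_card_ge htrk (hkdl.trans hrtr)
  have hktr' : Nat.card tr.ker = p ^ b := le_antisymm hktr (hdeq ▸ hrdl)
  let U := UnitaryUnip 𝕂 σ
  have hπs : Function.Surjective (UnitaryUnip.proj : U →* Multiplicative 𝕂) := by
    intro z
    have : Multiplicative.toAdd z * σ.1 (Multiplicative.toAdd z) ∈ tr.range := by
      rw [hteq, AddMonoidHom.mem_ker]
      show _ - σ.1 _ = 0
      rw [σ.1.map_mul, σ.2]; exact sub_eq_zero.2 (mul_comm _ _)
    obtain ⟨w, hw⟩ := this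
    exact ⟨⟨_, w, hw⟩, rfl⟩
  have hUcard : Nat.card U = p ^ (b + a) := by
    rw [Subgroup.card_eq_card_quotient_mul_card_subgroup (UnitaryUnip.proj : U →* _).ker,
      Nat.card_congr (QuotientGroup.quotientKerEquivOfSurjective _ hπs).toEquiv,
      Nat.card_congr Multiplicative.toAdd, hK, pow_add, mul_comm, ← hktr']
    congr 1
    refine Nat.card_congr
      { toFun := fun u => ⟨(u : U).w, ?_⟩
        invFun := fun w => ⟨⟨0, w, ?_⟩, rfl⟩
        left_inv := fun u => Subtype.ext (UnitaryUnip.ext (congrArg Multiplicative.toAdd u.2).symm rfl)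
        right_inv := fun w => rfl }
    · have h := (u : U).rel
      rw [show (u : U).v = 0 from congrArg Multiplicative.toAdd u.2, zero_mul] at h
      exact h
    · rw [zero_mul]; exact w.2
  obtain ⟨G, i1, i2, d, hG⟩ := exists_datum_of_action (r := r) hpq hr hd U
    (IsPGroup.of_card hUcard) (UnitaryUnip.scale ζ hσζ) UnitaryUnip.proj hπs (fun _ => rfl)
    (MulEquiv.ext fun z => by
      obtain ⟨h1, h2⟩ := UnitaryUnip.scale_pow ζ hσζ q z
      refine UnitaryUnip.ext ?_ h2
      rw [h1, hprim.pow_eq_one, one_mul]; rfl)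
    (fun c hc => by
      have hv : c.v = 0 := congrArg Multiplicative.toAdd hc
      refine ⟨UnitaryUnip.ext ?_ rfl, fun u => ?_⟩
      · show ζ * c.v = c.v
        rw [hv, mul_zero]
      · apply UnitaryUnip.ext
        · show u.v + c.v = c.v + u.v
          exact add_comm _ _
        · show u.w + c.w + σ.1 u.v * c.v = c.w + u.w + σ.1 c.v * u.v
          rw [hv, map_zero]; ring)
    (fun c hc => by
      have hv : c.v = 0 := congrArg Multiplicative.toAdd hc
      have hw : c.w ∈ dl.range := by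
        rw [hdeq]
        have h := c.rel
        rw [hv, zero_mul] at h
        exact h
      obtain ⟨z, hz⟩ := hw
      obtain ⟨u, hu⟩ := hπs (Multiplicative.ofAdd 1)
      obtain ⟨v, hv'⟩ := hπs (Multiplicative.ofAdd z)
      have hu' : u.v = 1 := congrArg Multiplicative.toAdd hu
      have hvz : v.v = z := congrArg Multiplicative.toAdd hv'
      obtain ⟨h1, h2⟩ := UnitaryUnip.comm_w u v
      refine ⟨u, v, UnitaryUnip.ext (hv.trans h1.symm) ?_⟩
      rw [h2, hu', hvz, map_one, one_mul, mul_one]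
      exact hz.symm)
  exact ⟨G, i1, i2, d, by rw [hG, hUcard]⟩

end Exists

end Cfsg.Agent.SchmidtMax
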