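import Cfsg.Agent.SchmidtMax.Linear
import Mathlib

/-!
A Schmidt group of largest order covers every Schmidt group with the same `q`-part.
-/

set_option autoImplicit false
set_option linter.style.haveILetI false
set_option linter.unusedSectionVars false

open Subgroup Polynomial
open scoped Pointwise commutatorElement

namespace Cfsg.Agent.SchmidtMax

variable {p q r : ℕ} [hp : Fact p.Prime] [hq : Fact q.Prime] {X Y : Type*} [Group X] [Group Y]
  [Finite X] [Finite Y] {f : (ZMod p)[X]} [hf : Fact (Irreducible f)]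

/-- The elements of `P × Q` whose images in the two modules correspond. -/
theorem graph_subgroup (d₀ : Datum p q r X) (d₁ : Datum p q r Y) (h₀ : d₀.Aligned f)
    (h₁ : d₁.Aligned f) (u₀ : d₀.P) (u₁ : d₁.P) :
    ∃ Γ : Subgroup (X × Y), (∀ w ∈ Γ, w.1 ∈ d₀.P ∧ w.2 ∈ d₁.P) ∧ ((u₀ : X), (u₁ : Y)) ∈ Γ ∧
      (∀ w ∈ Γ, (d₀.x, d₁.x) * w * (d₀.x, d₁.x)⁻¹ ∈ Γ) ∧
      (d₀.proj u₀ ≠ 0 → d₁.proj u₁ ≠ 0 →
        ∀ w ∈ Γ, w.1 ∈ center X ↔ w.2 ∈ center Y) := by
  let Γ : Subgroup (X × Y) :=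
    { carrier := {w | ∃ (ha : w.1 ∈ d₀.P) (hb : w.2 ∈ d₁.P) (z : AdjoinRoot f),
        d₀.proj ⟨w.1, ha⟩ = d₀.rho h₀ z (d₀.proj u₀) ∧
        d₁.proj ⟨w.2, hb⟩ = d₁.rho h₁ z (d₁.proj u₁)}
      one_mem' := ⟨one_mem _, one_mem _, 0, by rw [map_zero]; rfl, by rw [map_zero]; rfl⟩
      mul_mem' := fun {a b} ⟨ha, ha', z, hz, hz'⟩ ⟨hb, hb', y, hy, hy'⟩ =>
        ⟨mul_mem ha hb, mul_mem ha' hb', z + y, by
          rw [map_add, LinearMap.add_apply, ← hz, ← hy]; rfl, by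
          rw [map_add, LinearMap.add_apply, ← hz', ← hy']; rfl⟩
      inv_mem' := fun {a} ⟨ha, ha', z, hz, hz'⟩ =>
        ⟨inv_mem ha, inv_mem ha', -z, by rw [map_neg, LinearMap.neg_apply, ← hz]; rfl, by
          rw [map_neg, LinearMap.neg_apply, ← hz']; rfl⟩ }
  refine ⟨Γ, fun w ⟨ha, hb, _⟩ => ⟨ha, hb⟩,
    ⟨u₀.2, u₁.2, 1, by simp, by simp⟩, ?_, ?_⟩
  · rintro w ⟨ha, hb, z, hz, hz'⟩
    refine ⟨d₀.normal.conj_mem _ ha _, d₁.normal.conj_mem _ hb _, AdjoinRoot.root f ^ 1 * z, ?_, ?_⟩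
    · rw [map_mul, Module.End.mul_apply, Datum.rho_root_pow, pow_one, ← hz, Datum.T_proj]
      rfl
    · rw [map_mul, Module.End.mul_apply, Datum.rho_root_pow, pow_one, ← hz', Datum.T_proj]
      rfl
  · rintro hu₀ hu₁ ⟨a, b⟩ ⟨ha, hb, z, hz, hz'⟩
    have e₀ : a ∈ center X ↔ z = 0 := by
      rw [← d₀.proj_eq_zero (w := ⟨a, ha⟩), hz]
      refine ⟨fun h => ?_, fun h => by rw [h, map_zero, LinearMap.zero_apply]⟩
      by_contra hne
      exact hu₀ (d₀.rho_injective h₀ hne (h.trans (map_zero _).symm))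
    have e₁ : b ∈ center Y ↔ z = 0 := by
      rw [← d₁.proj_eq_zero (w := ⟨b, hb⟩), hz']
      refine ⟨fun h => ?_, fun h => by rw [h, map_zero, LinearMap.zero_apply]⟩
      by_contra hne
      exact hu₁ (d₁.rho_injective h₁ hne (h.trans (map_zero _).symm))
    exact e₀.trans e₁.symm

omit hf in
/-- A subgroup meeting `P` outside the centre and invariant under `x` maps onto `P` after
commutation with `x`. -/
theorem commutator_eq_P (d : Datum p q r X) (W : Subgroup X) (hW : W ≤ d.P)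
    (hinv : d.x ∈ normalizer (W : Set X)) {w : X} (hw : w ∈ W) (hwc : w ∉ center X) :
    ⁅W, zpowers d.x⁆ = d.P ∧ W = d.P := by
  haveI := d.normal
  have hD : d.x ∈ normalizer ((W ⊔ d.P ⊓ center X : Subgroup X) : Set X) := by
    refine conj_mem_zpowers_normalizer fun v hv => ?_
    obtain ⟨a, ha, c, hc, rfl⟩ := Coprime.exists_mul_of_mem_sup (A := W) (K := d.P ⊓ center X)
      (fun y _ => conj_mem_zpowers_normalizer fun v hv => by
        rw [mem_center_iff.1 hv.2 y, mul_inv_cancel_right]; exact hv) hv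
    rw [show d.x * (a * c) * d.x⁻¹ = (d.x * a * d.x⁻¹) * (d.x * c * d.x⁻¹) by group,
      mem_center_iff.1 hc.2 d.x, mul_inv_cancel_right]
    exact mul_mem (mem_sup_left ((mem_normalizer_iff.1 hinv a).1 ha)) (mem_sup_right hc)
  have htop : W ⊔ d.P ⊓ center X = d.P := by
    refine (d.irr _ (sup_le hW inf_le_left) le_sup_right
      (fun v hv => (mem_normalizer_iff.1 hD v).1 hv)).resolve_left fun h => hwc ?_
    have : w ∈ W ⊔ d.P ⊓ center X := mem_sup_left hw
    rw [h] at this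
    exact this.2
  have hle : ⁅d.P, zpowers d.x⁆ ≤ ⁅W, zpowers d.x⁆ := by
    conv_lhs => rw [← htop]
    rw [commutator_le]
    intro v hv y hy
    obtain ⟨a, ha, c, hc, rfl⟩ := Coprime.exists_mul_of_mem_sup (A := W) (K := d.P ⊓ center X)
      (fun y _ => conj_mem_zpowers_normalizer fun v hv => by
        rw [mem_center_iff.1 hv.2 y, mul_inv_cancel_right]; exact hv) hv
    have e : ⁅a * c, y⁆ = ⁅a, y⁆ := by
      rw [commutatorElement_def, commutatorElement_def, mul_assoc a c y,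
        ← mem_center_iff.1 hc.2 y]
      group
    rw [e]
    exact commutator_mem_commutator ha hy
  rw [d.comm_eq] at hle
  have h2 : ⁅W, zpowers d.x⁆ ≤ W :=
    Coprime.commutator_le_of_le_normalizer (zpowers_le.2 hinv)
  exact ⟨le_antisymm (h2.trans hW) hle, le_antisymm hW (hle.trans h2)⟩

/-- The covering map. -/
theorem exists_cover (hpq : p ≠ q) (hd : f ∣ cyclotomic q (ZMod p)) (d₀ : Datum p q r X)
    (d₁ : Datum p q r Y) (h₀ : d₀.Aligned f) (h₁ : d₁.Aligned f)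
    (hmax : Nat.card X = p ^ (if orderOf (p : ZMod q) % 2 = 1 then orderOf (p : ZMod q)
      else 3 * orderOf (p : ZMod q) / 2) * q ^ r) :
    ∃ φ : X →* Y, Function.Surjective φ ∧ φ.ker ≤ center X := by
  classical
  haveI := d₀.normal
  haveI := d₁.normal
  obtain ⟨v₀, hv₀⟩ := d₀.exists_ne_zero
  obtain ⟨v₁, hv₁⟩ := d₁.exists_ne_zero
  obtain ⟨u₀, rfl⟩ := d₀.proj_surjective v₀
  obtain ⟨u₁, rfl⟩ := d₁.proj_surjective v₁
  obtain ⟨Γ, hΓP, huΓ, hΓx, hΓc⟩ := graph_subgroup d₀ d₁ h₀ h₁ u₀ u₁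
  replace hΓc := hΓc hv₀ hv₁
  set e : X × Y := (d₀.x, d₁.x) with he
  set P := ⁅Γ, zpowers e⁆ with hP
  have hee : zpowers e ≤ normalizer (Γ : Set (X × Y)) :=
    zpowers_le.2 (conj_mem_zpowers_normalizer hΓx)
  have hPΓ : P ≤ Γ := Coprime.commutator_le_of_le_normalizer hee
  have hord : orderOf e = q ^ r := by
    rw [he, Prod.orderOf_mk, d₀.order_x, d₁.order_x, Nat.lcm_self]
  have hΓp : IsPGroup p Γ := isPGroup_iff_pow_pow_eq_one.2 fun w => by
    obtain ⟨k, hk⟩ := d₀.pgroup.exists_pow_pow_eq_one ⟨_, (hΓP w w.2).1⟩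
    obtain ⟨l, hl⟩ := d₁.pgroup.exists_pow_pow_eq_one ⟨_, (hΓP w w.2).2⟩
    refine ⟨k + l, Subtype.ext (Prod.ext ?_ ?_)⟩
    · have h : ((w : X × Y).1) ^ p ^ k = 1 := congrArg Subtype.val hk
      show ((w : X × Y).1) ^ p ^ (k + l) = 1
      rw [pow_add, pow_mul, h, one_pow]
    · have h : ((w : X × Y).2) ^ p ^ l = 1 := congrArg Subtype.val hl
      show ((w : X × Y).2) ^ p ^ (k + l) = 1
      rw [pow_add, mul_comm, pow_mul, h, one_pow]
  -- projections
  have hproj₀ : P.map (MonoidHom.fst X Y) = d₀.P := by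
    rw [hP, map_commutator, MonoidHom.map_zpowers]
    exact (commutator_eq_P d₀ (Γ.map (MonoidHom.fst X Y))
      (fun _ ⟨w, hw, e⟩ => e ▸ (hΓP w hw).1)
      (conj_mem_zpowers_normalizer fun _ ⟨w, hw, e⟩ => ⟨_, hΓx w hw, by rw [← e]; rfl⟩)
      (mem_map_of_mem _ huΓ) (fun h => hv₀ (d₀.proj_eq_zero.2 h))).1
  have hproj₁ : P.map (MonoidHom.snd X Y) = d₁.P := by
    rw [hP, map_commutator, MonoidHom.map_zpowers]
    exact (commutator_eq_P d₁ (Γ.map (MonoidHom.snd X Y))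
      (fun _ ⟨w, hw, e⟩ => e ▸ (hΓP w hw).2)
      (conj_mem_zpowers_normalizer fun _ ⟨w, hw, e⟩ => ⟨_, hΓx w hw, by rw [← e]; rfl⟩)
      (mem_map_of_mem _ huΓ) (fun h => hv₁ (d₁.proj_eq_zero.2 h))).1
  -- the group generated
  let G : Subgroup (X × Y) := P ⊔ zpowers e
  have hPG : P ≤ G := le_sup_left
  have heG : e ∈ G := mem_sup_right (mem_zpowers e)
  have heP : e ∈ normalizer (P : Set (X × Y)) :=
    Coprime.le_normalizer_commutator_right Γ _ (mem_zpowers e)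
  have hcenG : ∀ c : G, (c : X × Y).1 ∈ center X → (c : X × Y).2 ∈ center Y → c ∈ center G := by
    intro c h1 h2
    exact mem_center_iff.2 fun y => Subtype.ext (Prod.ext (mem_center_iff.1 h1 _)
      (mem_center_iff.1 h2 _))
  have hGsurj₀ : ∀ x : X, ∃ g : G, (g : X × Y).1 = x := by
    intro x
    have : (⊤ : Subgroup X) ≤ G.map (MonoidHom.fst X Y) := by
      rw [← d₀.sup_top, ← hproj₀]
      exact sup_le (map_mono hPG) (zpowers_le.2 ⟨e, heG, rfl⟩)
    obtain ⟨g, hg, hgx⟩ := this (mem_top x)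
    exact ⟨⟨g, hg⟩, hgx⟩
  have hGsurj₁ : ∀ y : Y, ∃ g : G, (g : X × Y).2 = y := by
    intro y
    have : (⊤ : Subgroup Y) ≤ G.map (MonoidHom.snd X Y) := by
      rw [← d₁.sup_top, ← hproj₁]
      exact sup_le (map_mono hPG) (zpowers_le.2 ⟨e, heG, rfl⟩)
    obtain ⟨g, hg, hgx⟩ := this (mem_top y)
    exact ⟨⟨g, hg⟩, hgx⟩
  -- the centre of `G` inside `P`
  have hcen₀ : ∀ c : G, c ∈ center G → (c : X × Y).1 ∈ center X := by
    intro c hc
    refine mem_center_iff.2 fun x => ?_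
    obtain ⟨g, rfl⟩ := hGsurj₀ x
    exact congrArg (fun z : G => (z : X × Y).1) (mem_center_iff.1 hc g)
  have hPn : (P.subgroupOf G).Normal := by
    refine normal_subgroupOf_of_le_normalizer (sup_le le_normalizer (zpowers_le.2 heP))
  let d : Datum p q r G :=
    { P := P.subgroupOf G
      x := ⟨e, heG⟩
      normal := hPn
      pgroup := (hΓp.to_le hPΓ).of_equiv (subgroupOfEquivOfLe hPG).symm
      ne_bot := fun h => d₀.ne_bot (by
        rw [← hproj₀]
        rw [subgroupOf_eq_bot] at h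
        rw [(h.mono_right hPG).eq_bot_of_self, Subgroup.map_bot])
      order_x := by rw [Subgroup.orderOf_mk, hord]
      sup_top := by
        apply map_injective G.subtype_injective
        rw [Subgroup.map_sup, subgroupOf_map_subtype, inf_eq_left.2 hPG, MonoidHom.map_zpowers,
          ← MonoidHom.range_eq_map, range_subtype]
        rfl
      xq_center := hcenG _ d₀.xq_center d₁.xq_center
      comm_eq := by
        apply map_injective G.subtype_injective
        rw [map_commutator, subgroupOf_map_subtype, inf_eq_left.2 hPG, MonoidHom.map_zpowers]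
        show ⁅P, zpowers e⁆ = P
        rw [hP, Coprime.commutator_commutator_eq hee (coprime_card_zpowers hpq hΓp hord)]
      comm_mem := fun a ha b hb => hcenG _
        (d₀.comm_mem _ (hΓP _ (hPΓ (mem_subgroupOf.1 ha))).1 _ (hΓP _ (hPΓ (mem_subgroupOf.1 hb))).1)
        (d₁.comm_mem _ (hΓP _ (hPΓ (mem_subgroupOf.1 ha))).2 _ (hΓP _ (hPΓ (mem_subgroupOf.1 hb))).2)
      pth_mem := fun a ha => hcenG _
        (d₀.pth_mem _ (hΓP _ (hPΓ (mem_subgroupOf.1 ha))).1)
        (d₁.pth_mem _ (hΓP _ (hPΓ (mem_subgroupOf.1 ha))).2)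
      irr := by
        intro W hW hDW hinv
        by_cases hc : ∀ w ∈ W, w ∈ center G
        · exact Or.inl (le_antisymm (le_inf hW hc) hDW)
        push Not at hc
        obtain ⟨w, hw, hwc⟩ := hc
        refine Or.inr (le_antisymm hW fun y hy => ?_)
        have hw1 : (w : X × Y).1 ∉ center X := fun h => hwc (hcenG w h
          ((hΓc _ (hPΓ (mem_subgroupOf.1 (hW hw)))).1 h))
        have h := (commutator_eq_P d₀ (W.map ((MonoidHom.fst X Y).comp G.subtype))
          (fun _ ⟨v, hv, e⟩ => e ▸ (hΓP _ (hPΓ (mem_subgroupOf.1 (hW hv)))).1)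
          (conj_mem_zpowers_normalizer fun _ ⟨v, hv, e⟩ => ⟨_, hinv v hv, by rw [← e]; rfl⟩)
          (mem_map_of_mem _ hw) hw1).2
        have hy' : (y : X × Y).1 ∈ W.map ((MonoidHom.fst X Y).comp G.subtype) := by
          rw [h]; exact (hΓP _ (hPΓ (mem_subgroupOf.1 hy))).1
        obtain ⟨v, hv, hvy⟩ := hy'
        have hc1 : ((v⁻¹ * y : G) : X × Y).1 ∈ center X := by
          have : ((v⁻¹ * y : G) : X × Y).1 = 1 := by
            show ((v : X × Y).1)⁻¹ * (y : X × Y).1 = 1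
            rw [show (v : X × Y).1 = (y : X × Y).1 from hvy, inv_mul_cancel]
          rw [this]; exact one_mem _
        have hmem : v⁻¹ * y ∈ P.subgroupOf G := mul_mem (inv_mem (hW hv)) hy
        have : v⁻¹ * y ∈ W := hDW ⟨hmem, hcenG _ hc1
          ((hΓc _ (hPΓ (mem_subgroupOf.1 hmem))).1 hc1)⟩
        simpa using mul_mem hv this }
  -- the bound gives an isomorphism with `X`
  obtain ⟨d', hd'P, hd'⟩ := d.exists_aligned (f := f) hpq hd
  have hb := d'.card_P_le hd' hpq hd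
  have hcG : Nat.card G = Nat.card P * q ^ r := card_sup hpq (hΓp.to_le hPΓ) heP hord
  rw [hd'P, Nat.card_congr (subgroupOfEquivOfLe hPG).toEquiv] at hb
  let π₀ : G →* X := (MonoidHom.fst X Y).comp G.subtype
  let π₁ : G →* Y := (MonoidHom.snd X Y).comp G.subtype
  have hbij : Function.Bijective π₀ := by
    refine (Nat.bijective_iff_surjective_and_card _).2 ⟨hGsurj₀, le_antisymm ?_ ?_⟩
    · rw [hcG, hmax]; exact Nat.mul_le_mul_right _ hb
    · exact Nat.card_le_card_of_surjective _ hGsurj₀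
  let ψ := MulEquiv.ofBijective π₀ hbij
  refine ⟨π₁.comp ψ.symm.toMonoidHom, ?_, ?_⟩
  · intro y
    obtain ⟨g, hg⟩ := hGsurj₁ y
    exact ⟨ψ g, by show π₁ (ψ.symm (ψ g)) = y; rw [ψ.symm_apply_apply]; exact hg⟩
  intro x hx
  obtain ⟨g, rfl⟩ := ψ.surjective x
  have hg2 : (g : X × Y).2 = 1 := by
    have : π₁ (ψ.symm (ψ g)) = 1 := hx
    rwa [ψ.symm_apply_apply] at this
  show (g : X × Y).1 ∈ center X
  have hgdec := g.2
  obtain ⟨w, hw, z, hz, hwz⟩ : ∃ w ∈ P, ∃ z ∈ zpowers e, (g : X × Y) = z * w := by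
    have hg' : (g : X × Y) ∈ zpowers e ⊔ P := by rw [sup_comm]; exact hgdec
    obtain ⟨z, hz, w, hw, h⟩ := Coprime.exists_mul_of_mem_sup (zpowers_le.2 heP) hg'
    exact ⟨w, hw, z, hz, h⟩
  obtain ⟨m, rfl⟩ := mem_zpowers_iff.1 hz
  have h2 : d₁.x ^ m * w.2 = 1 := by rw [← hg2, hwz]; rfl
  have hxm : d₁.x ^ m = 1 := by
    have hmem : d₁.x ^ m ∈ zpowers d₁.x ⊓ d₁.P :=
      ⟨zpow_mem (mem_zpowers _) m, (eq_inv_of_mul_eq_one_left h2).symm ▸ d₁.P.inv_mem (hΓP w (hPΓ hw)).2⟩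
    rwa [inf_eq_bot_of_coprime (coprime_card_zpowers hpq d₁.pgroup d₁.order_x), mem_bot] at hmem
  have hem : e ^ m = 1 := by
    rw [← orderOf_dvd_iff_zpow_eq_one, hord, ← d₁.order_x, orderOf_dvd_iff_zpow_eq_one, hxm]
  rw [hxm, one_mul] at h2
  rw [hwz, hem, one_mul]
  exact (hΓc w (hPΓ hw)).2 (h2 ▸ one_mem _)

end Cfsg.Agent.SchmidtMax
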