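import Cfsg.Prelude.Def_Transfer
import Cfsg.Agent.Coprime.Action
import Cfsg.Agent.Coprime.Conj
import Cfsg.Agent.Transfer.Frobenius
import Cfsg.Agent.Transfer.Residual

/-!
Minimal non-`p`-nilpotent groups of order `p^t q^r` (Itô): structure and a criterion.
-/

set_option autoImplicit false
set_option linter.style.haveILetI false
set_option linter.unusedSectionVars false

open Subgroup
open scoped Pointwise commutatorElement

namespace Cfsg.Agent.SchmidtMax

/-- No normal `p`-complement, but every proper subgroup has one. -/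
def IsMNN (p : ℕ) (X : Type*) [Group X] : Prop :=
  ¬ Cfsg.HasNormalPComplement p X ∧ ∀ K : Subgroup X, K ≠ ⊤ → Cfsg.HasNormalPComplement p ↥K

/-- The shape of a minimal non-`p`-nilpotent group. -/
structure Datum (p q r : ℕ) (X : Type*) [Group X] where
  P : Subgroup X
  x : X
  normal : P.Normal
  pgroup : IsPGroup p P
  ne_bot : P ≠ ⊥
  order_x : orderOf x = q ^ r
  sup_top : P ⊔ zpowers x = ⊤
  xq_center : x ^ q ∈ center X
  comm_eq : ⁅P, zpowers x⁆ = P
  comm_mem : ∀ a ∈ P, ∀ b ∈ P, ⁅a, b⁆ ∈ center X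
  pth_mem : ∀ a ∈ P, a ^ p ∈ center X
  irr : ∀ W : Subgroup X, W ≤ P → P ⊓ center X ≤ W → (∀ w ∈ W, x * w * x⁻¹ ∈ W) →
    W = P ⊓ center X ∨ W = P

variable {p q r : ℕ} [hp : Fact p.Prime] [hq : Fact q.Prime] {X : Type*} [Group X] [Finite X]

theorem centralizes_of_ne_top (hX : IsMNN p X) {Q : Subgroup X} {g : X} (hQ : IsPGroup p Q)
    (hg : g ∈ normalizer (Q : Set X)) (hgo : Nat.Coprime (orderOf g) p)
    (hne : Q ⊔ zpowers g ≠ ⊤) : g ∈ centralizer (Q : Set X) := by
  have hgK : g ∈ Q ⊔ zpowers g := mem_sup_right (mem_zpowers g)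
  have h := Transfer.centralize_of_hasNormalPComplement (hX.2 _ hne)
    (Q.subgroupOf (Q ⊔ zpowers g)) (hQ.of_equiv (subgroupOfEquivOfLe le_sup_left).symm)
    (g := ⟨g, hgK⟩) ?_ ?_
  · intro w hw
    exact congrArg Subtype.val (h ⟨w, mem_sup_left hw⟩ (mem_subgroupOf.2 hw))
  · rw [mem_normalizer_iff]
    intro h'
    simpa [mem_subgroupOf] using (mem_normalizer_iff.1 hg) (h' : X)
  · rwa [Subgroup.orderOf_mk]

theorem conj_mem_zpowers_normalizer {W : Subgroup X} {g : X}
    (h : ∀ w ∈ W, g * w * g⁻¹ ∈ W) : g ∈ normalizer (W : Set X) := by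
  rw [mem_normalizer_iff_map_conj_eq]
  refine eq_of_le_of_card_ge ?_ (le_of_eq ?_)
  · rintro _ ⟨w, hw, rfl⟩
    exact h w hw
  · exact (card_map_of_injective (MulAut.conj g).injective).symm

theorem coprime_card_zpowers (hpq : p ≠ q) {W : Subgroup X} (hW : IsPGroup p W) {g : X} {i : ℕ}
    (hg : orderOf g = q ^ i) : (Nat.card (zpowers g)).Coprime (Nat.card W) := by
  obtain ⟨j, hj⟩ := hW.exists_card_eq
  rw [Nat.card_zpowers, hg, hj]
  exact ((Nat.coprime_primes hq.out hp.out).2 hpq.symm).pow _ _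

theorem card_sup (hpq : p ≠ q) {W : Subgroup X} (hW : IsPGroup p W) {g : X} {i : ℕ}
    (hn : g ∈ normalizer (W : Set X)) (hg : orderOf g = q ^ i) :
    Nat.card ↥(W ⊔ zpowers g) = Nat.card W * q ^ i := by
  rw [sup_comm, Coprime.card_sup_of_coprime (zpowers_le.2 hn) (coprime_card_zpowers hpq hW hg),
    Nat.card_zpowers, hg, mul_comm]

/-- Itô's structure theorem for `{p,q}`-groups. -/
theorem exists_datum (hpq : p ≠ q) (hr : 1 ≤ r) {t : ℕ} (hX : IsMNN p X)
    (hcard : Nat.card X = p ^ t * q ^ r) :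
    ∃ d : Datum p q r X, Nat.card d.P = p ^ t := by
  classical
  obtain ⟨R, hR, -, g, hgn, hgo, hgc⟩ :
      ∃ Q : Subgroup X, IsPGroup p Q ∧ Q ≠ ⊥ ∧ ∃ g ∈ normalizer (Q : Set X),
        Nat.Coprime (orderOf g) p ∧ g ∉ centralizer (Q : Set X) := by
    by_contra hc
    push Not at hc
    exact hX.1 (Transfer.hasNormalPComplement_of_coprime_centralize hc)
  have hqp := (Nat.coprime_primes hq.out hp.out).2 hpq.symm
  obtain ⟨i, -, hi⟩ : ∃ i ≤ r, orderOf g = q ^ i := by
    refine (Nat.dvd_prime_pow hq.out).1 ((hgo.pow_right t).dvd_of_dvd_mul_left ?_)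
    exact hcard ▸ orderOf_dvd_natCard g
  have htop : R ⊔ zpowers g = ⊤ := by
    by_contra h
    exact hgc (centralizes_of_ne_top hX hR hgn hgo h)
  obtain ⟨j, hj⟩ := hR.exists_card_eq
  have hc2 : p ^ t * q ^ r = p ^ j * q ^ i := by
    have h := card_sup hpq hR hgn hi
    rw [htop, card_top, hcard, hj] at h
    exact h
  have hir : i = r := by
    have h := congrArg (fun n => n.factorization q) hc2
    simpa [Nat.factorization_mul, hp.out.ne_zero, hq.out.ne_zero, hq.out.factorization_self,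
      Nat.factorization_eq_zero_of_not_dvd
        (fun h : q ∣ p => hpq ((Nat.prime_dvd_prime_iff_eq hq.out hp.out).1 h).symm)]
      using h.symm
  have hjt : j = t := by
    rw [hir] at hc2
    exact (Nat.pow_right_injective hp.out.two_le
      (mul_right_cancel₀ (pow_ne_zero _ hq.out.ne_zero) hc2)).symm
  subst hir hjt
  have hRn : R.Normal := normalizer_eq_top_iff.1 (top_le_iff.1 (htop.symm.le.trans
    (sup_le le_normalizer (zpowers_le.2 hgn))))
  have key : ∀ W : Subgroup X, W ≤ R → (∀ w ∈ W, g * w * g⁻¹ ∈ W) → W ≠ R →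
      g ∈ centralizer (W : Set X) := by
    intro W hW hinv hne
    have hn := conj_mem_zpowers_normalizer hinv
    refine centralizes_of_ne_top hX (hR.to_le hW) hn hgo fun h => hne ?_
    refine eq_of_le_of_card_ge hW ?_
    have h1 := card_sup hpq (hR.to_le hW) hn hi
    rw [h, card_top, hcard] at h1
    exact (Nat.eq_of_mul_eq_mul_right (pow_pos hq.out.pos i) (hj ▸ h1)).le
  have hgR : ∀ w ∈ R, g * w * g⁻¹ ∈ R := fun w hw => hRn.conj_mem w hw g
  have hR1 : R ≠ ⊥ := by
    rintro rfl
    exact hgc fun w hw => by rw [mem_bot.1 hw]; simp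
  have hcenter : ∀ c : X, (∀ w ∈ R, w * c = c * w) → g * c = c * g → c ∈ center X := by
    intro c hc1 hc2
    have h : (⊤ : Subgroup X) ≤ centralizer {c} := by
      rw [← htop]
      exact sup_le (fun w hw => mem_centralizer_singleton_iff.2 (hc1 w hw))
        (zpowers_le.2 (mem_centralizer_singleton_iff.2 hc2))
    exact mem_center_iff.2 fun y => mem_centralizer_singleton_iff.1 (h (mem_top y))
  -- `x^q` is central
  have hgq : g ^ q ∈ center X := by
    have hgq' : g ^ q ∈ centralizer (R : Set X) := by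
      refine centralizes_of_ne_top hX hR (pow_mem hgn q) ?_ fun h => ?_
      · exact hgo.coprime_dvd_left (orderOf_dvd_of_mem_zpowers (npow_mem_zpowers g q))
      · have ho : orderOf (g ^ q) = q ^ (i - 1) := by
          rw [orderOf_pow_of_dvd hq.out.ne_zero (hi ▸ dvd_pow_self q (by omega)), hi]
          exact Nat.pow_div hr hq.out.pos ▸ by rw [pow_one]
        have h1 := card_sup hpq hR (pow_mem hgn q) ho
        rw [h, card_top, hcard, hj] at h1
        have h2 := Nat.pow_right_injective hq.out.two_le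
          (Nat.eq_of_mul_eq_mul_left (pow_pos hp.out.pos j) h1)
        omega
    exact hcenter _ hgq' ((Commute.self_pow g q).eq)
  have hzn : zpowers g ≤ normalizer (R : Set X) := zpowers_le.2 hgn
  have hcop : (Nat.card (zpowers g)).Coprime (Nat.card R) := coprime_card_zpowers hpq hR hi
  have hzc : ∀ W : Subgroup X, g ∈ centralizer (W : Set X) →
      W ≤ centralizer (zpowers g : Set X) := fun W h => le_centralizer_iff.1 (zpowers_le.2 h)
  -- `[R, x] = R`
  have hcomm : ⁅R, zpowers g⁆ = R := by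
    by_contra hne
    have hle := Coprime.commutator_le_of_le_normalizer hzn
    have hc := key _ hle (fun w hw => (mem_normalizer_iff.1
      (Coprime.le_normalizer_commutator_right R _ (mem_zpowers g)) w).1 hw) hne
    exact hgc (Coprime.le_centralizer_of_commutator_commutator_eq_bot hzn hcop
      (commutator_eq_bot_iff_le_centralizer.2 (hzc _ hc)) (mem_zpowers g))
  -- the derived subgroup
  have hder : ⁅R, R⁆ ≠ R := by
    haveI : Nontrivial R := R.nontrivial_iff_ne_bot.2 hR1
    haveI : Group.IsNilpotent R := hR.isNilpotent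
    intro h
    have h1 : commutator R ≠ ⊤ := (Group.IsSolvable.commutator_lt_top_of_nontrivial R).ne
    apply h1
    apply Subgroup.map_injective R.subtype_injective
    rw [R.map_subtype_commutator, h, ← MonoidHom.range_eq_map, range_subtype]
  set C := R ⊓ centralizer (zpowers g : Set X) with hC
  have hderC : ⁅R, R⁆ ≤ C := by
    refine le_inf (commutator_le_self R) (hzc _ (key _ (commutator_le_self R) ?_ hder))
    exact fun w hw => (commutator_normal R R).conj_mem w hw g
  have hCcen : C ≤ center X := by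
    have h1 : ⁅⁅zpowers g, R⁆, C⁆ = ⊥ := by
      apply commutator_commutator_eq_bot_of_rotate
      · have : ⁅R, C⁆ ≤ C := (commutator_mono le_rfl inf_le_left).trans hderC
        exact commutator_eq_bot_iff_le_centralizer.2 (this.trans inf_le_right)
      · rw [commutator_eq_bot_iff_le_centralizer.2 (inf_le_right : C ≤ _), commutator_bot_left]
    rw [commutator_comm _ R, hcomm, commutator_comm, commutator_eq_bot_iff_le_centralizer] at h1
    intro c hc
    exact hcenter c (fun w hw => h1 hc w hw) (hc.2 g (mem_zpowers g))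
  have hCeq : R ⊓ center X = C := le_antisymm
    (le_inf inf_le_left (inf_le_right.trans (center_le_centralizer _))) (le_inf inf_le_left hCcen)
  have hirr : ∀ W : Subgroup X, W ≤ R → R ⊓ center X ≤ W → (∀ w ∈ W, g * w * g⁻¹ ∈ W) →
      W = R ⊓ center X ∨ W = R := by
    intro W hW hCW hinv
    by_cases hne : W = R
    · exact Or.inr hne
    · exact Or.inl (le_antisymm (hCeq ▸ le_inf hW (hzc _ (key W hW hinv hne))) hCW)
  have hcm : ∀ a ∈ R, ∀ b ∈ R, ⁅a, b⁆ ∈ center X := fun a ha b hb =>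
    hCcen (hderC (commutator_mem_commutator ha hb))
  have hpow : ∀ a ∈ R, a ^ p ∈ center X := by
    let W : Subgroup X :=
      { carrier := {w | w ∈ R ∧ w ^ p ∈ center X}
        one_mem' := ⟨one_mem _, by rw [one_pow]; exact one_mem _⟩
        mul_mem' := fun {a b} ha hb => ⟨mul_mem ha.1 hb.1, by
          rw [← QuotientGroup.eq_one_iff, QuotientGroup.mk_pow, QuotientGroup.mk_mul]
          have hab : Commute (a : X ⧸ center X) b := by
            rw [← commutatorElement_eq_one_iff_commute]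
            exact (QuotientGroup.eq_one_iff _).2 (hcm a ha.1 b hb.1)
          rw [hab.mul_pow, ← QuotientGroup.mk_pow, ← QuotientGroup.mk_pow,
            (QuotientGroup.eq_one_iff _).2 ha.2, (QuotientGroup.eq_one_iff _).2 hb.2, one_mul]⟩
        inv_mem' := fun {a} ha => ⟨inv_mem ha.1, by rw [inv_pow]; exact inv_mem ha.2⟩ }
    rcases hirr W (fun w hw => hw.1) (fun w hw => ⟨hw.1, pow_mem hw.2 p⟩)
      (fun w hw => ⟨hgR w hw.1, by
        rw [conj_pow, mem_center_iff.1 hw.2 g, mul_inv_cancel_right]; exact hw.2⟩) with h | h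
    · exfalso
      have hall : ∀ n : ℕ, ∀ a ∈ R, a ^ p ^ n ∈ center X → a ∈ center X := by
        intro n
        induction n with
        | zero => intro a _ h; simpa using h
        | succ n ih =>
          intro a ha hap
          have : a ^ p ^ n ∈ W := ⟨pow_mem ha _, by rwa [← pow_mul, ← pow_succ]⟩
          rw [h] at this
          exact ih a ha this.2
      apply hgc
      intro a ha
      obtain ⟨n, hn⟩ := hR.exists_pow_pow_eq_one ⟨a, ha⟩
      exact (mem_center_iff.1 (hall n a ha (by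
        rw [show a ^ p ^ n = 1 from congrArg Subtype.val hn]; exact one_mem _)) g).symm
    · intro a ha
      have : a ∈ W := h ▸ ha
      exact this.2
  exact ⟨⟨R, g, hRn, hR, hR1, hi, htop, hgq, hcomm, hcm, hpow, hirr⟩, hj⟩

/-- The criterion. -/
theorem Datum.isMNN (hpq : p ≠ q) (d : Datum p q r X) : IsMNN p X := by
  classical
  haveI := d.normal
  constructor
  · intro h
    have hxn : d.x ∈ normalizer (d.P : Set X) := le_normalizer_of_normal (mem_top d.x)
    have hcop : Nat.Coprime (orderOf d.x) p := by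
      rw [d.order_x]; exact ((Nat.coprime_primes hq.out hp.out).2 hpq.symm).pow_left _
    have h1 := Transfer.centralize_of_hasNormalPComplement h d.P d.pgroup hxn hcop
    apply d.ne_bot
    rw [← d.comm_eq, commutator_eq_bot_iff_le_centralizer]
    exact le_centralizer_iff.1 (zpowers_le.2 h1)
  intro K hK
  apply Transfer.hasNormalPComplement_of_coprime_centralize
  intro Q hQ hQ1 g hgn hgo
  -- images in `X`
  obtain ⟨Q', rfl⟩ : ∃ Q' : Subgroup X, Q = Q'.subgroupOf K :=
    ⟨Q.map K.subtype, (comap_map_eq_self_of_injective K.subtype_injective Q).symm⟩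
  have hdec : ∀ y : X, ∃ u ∈ d.P, ∃ m : ℤ, y = u * d.x ^ m := by
    intro y
    have hy : y ∈ zpowers d.x ⊔ d.P := by rw [sup_comm, d.sup_top]; exact mem_top y
    obtain ⟨z, hz, u, hu, rfl⟩ := Coprime.exists_mul_of_mem_sup le_normalizer_of_normal hy
    obtain ⟨m, rfl⟩ := mem_zpowers_iff.1 hz
    exact ⟨d.x ^ m * u * (d.x ^ m)⁻¹, d.normal.conj_mem u hu _, m, by group⟩
  have hpP : ∀ y : X, (∃ k, y ^ p ^ k = 1) → y ∈ d.P := by
    rintro y ⟨k, hk⟩
    have hi : (y : X ⧸ d.P) ^ (q ^ r) = 1 := by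
      obtain ⟨u, hu, m, rfl⟩ := hdec y
      rw [QuotientGroup.mk_mul, (QuotientGroup.eq_one_iff u).2 hu, one_mul, ← QuotientGroup.mk_pow,
        ← zpow_natCast, ← zpow_mul, mul_comm, zpow_mul, zpow_natCast, ← d.order_x,
        pow_orderOf_eq_one, one_zpow, QuotientGroup.mk_one]
    have h1 := Nat.dvd_gcd (orderOf_dvd_of_pow_eq_one (show (y : X ⧸ d.P) ^ p ^ k = 1 by
      rw [← QuotientGroup.mk_pow, hk, QuotientGroup.mk_one])) (orderOf_dvd_of_pow_eq_one hi)
    rw [Nat.Coprime.gcd_eq_one (((Nat.coprime_primes hp.out hq.out).2 hpq).pow _ _),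
      Nat.dvd_one, orderOf_eq_one_iff] at h1
    exact (QuotientGroup.eq_one_iff y).1 h1
  have hQP : ∀ w ∈ Q', w ∈ K → w ∈ d.P := by
    intro w hw hwK
    obtain ⟨k, hk⟩ := hQ.exists_pow_pow_eq_one ⟨⟨w, hwK⟩, mem_subgroupOf.2 hw⟩
    exact hpP w ⟨k, congrArg (fun z : ↥(Q'.subgroupOf K) => ((z : K) : X)) hk⟩
  let Q₀ : Subgroup X := Q' ⊓ K
  have hQ0P : Q₀ ≤ d.P := fun w hw => hQP w hw.1 hw.2
  have hgQ : ∀ w ∈ Q₀, (g : X) * w * (g : X)⁻¹ ∈ Q₀ := fun w hw =>
    ⟨mem_subgroupOf.1 ((mem_normalizer_iff.1 hgn ⟨w, hw.2⟩).1 (mem_subgroupOf.2 hw.1)),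
      K.mul_mem (K.mul_mem g.2 hw.2) (K.inv_mem g.2)⟩
  suffices hgoal : ∀ w ∈ Q₀, w * (g : X) = g * w by
    intro w hw
    exact Subtype.ext (hgoal w ⟨mem_subgroupOf.1 hw, w.2⟩)
  by_cases hgc : (g : X) ∈ center X
  · exact fun w _ => mem_center_iff.1 hgc w
  obtain ⟨u, hu, m, hgum⟩ := hdec (g : X)
  by_cases hqm : (q : ℤ) ∣ m
  · exfalso
    obtain ⟨c, rfl⟩ := hqm
    have hxc : d.x ^ ((q : ℤ) * c) ∈ center X := by
      rw [zpow_mul, zpow_natCast]; exact zpow_mem d.xq_center c
    obtain ⟨k, hk⟩ := d.pgroup.exists_pow_pow_eq_one ⟨u, hu⟩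
    have hk' : u ^ p ^ k = 1 := congrArg Subtype.val hk
    have hgk : (g : X) ^ p ^ k ∈ center X := by
      rw [hgum, Commute.mul_pow (mem_center_iff.1 hxc u), hk', one_mul]
      exact pow_mem hxc _
    have hgo' : Nat.Coprime (orderOf (g : X)) (p ^ k) := by
      rw [Subgroup.orderOf_coe]; exact hgo.pow_right k
    obtain ⟨e, he⟩ := exists_pow_eq_self_of_coprime hgo'.symm
    exact hgc (he ▸ pow_mem hgk e)
  -- `g` generates the same quotient as `x`
  let D := d.P ⊓ center X
  let W : Subgroup X := Q₀ ⊔ D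
  have hWP : W ≤ d.P := sup_le hQ0P inf_le_left
  have huW : u ∈ normalizer (W : Set X) := by
    refine conj_mem_zpowers_normalizer fun w hw => ?_
    rw [show u * w * u⁻¹ = ⁅u, w⁆ * w by rw [commutatorElement_def]; group]
    refine mul_mem (mem_sup_right ⟨?_, d.comm_mem u hu w (hWP hw)⟩) hw
    rw [commutatorElement_def]
    exact d.P.mul_mem (d.P.mul_mem (d.P.mul_mem hu (hWP hw)) (d.P.inv_mem hu))
      (d.P.inv_mem (hWP hw))
  have hgW : (g : X) ∈ normalizer (W : Set X) := by
    refine conj_mem_zpowers_normalizer fun w hw => ?_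
    have h := mem_map_of_mem (MulAut.conj (g : X)).toMonoidHom hw
    rw [Subgroup.map_sup] at h
    refine SetLike.le_def.1 (sup_le ?_ ?_) h
    · rintro _ ⟨z, hz, rfl⟩
      exact mem_sup_left (hgQ z hz)
    · rintro _ ⟨z, hz, rfl⟩
      refine mem_sup_right ?_
      simpa [mem_center_iff.1 hz.2 (g : X)] using hz
  have hxmW : d.x ^ m ∈ normalizer (W : Set X) := by
    rw [show d.x ^ m = u⁻¹ * g by rw [hgum]; group]
    exact mul_mem (inv_mem huW) hgW
  have hcm : IsCoprime m ((q ^ r : ℕ) : ℤ) := by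
    rw [Nat.cast_pow]
    exact ((Nat.prime_iff_prime_int.1 hq.out).coprime_iff_not_dvd.2 hqm).symm.pow_right
  have hxgen : ∀ H : Subgroup X, d.x ^ m ∈ H → d.x ∈ H := by
    intro H hH
    obtain ⟨a, b, hab⟩ := hcm
    have : d.x = (d.x ^ m) ^ a := by
      rw [← zpow_mul]
      conv_lhs => rw [← zpow_one d.x, ← hab, zpow_add, mul_comm b, zpow_mul d.x _ b, zpow_natCast,
        ← d.order_x, pow_orderOf_eq_one, one_zpow, mul_one, mul_comm]
    rw [this]
    exact zpow_mem hH a
  have hxW := hxgen _ hxmW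
  rcases d.irr W hWP le_sup_right (fun w hw => (mem_normalizer_iff.1 hxW w).1 hw) with h | h
  · intro w hw
    have : w ∈ D := by
      have h0 : w ∈ W := mem_sup_left hw
      rwa [h] at h0
    exact (mem_center_iff.1 this.2 (g : X)).symm
  exfalso
  -- `Q₀` is normal
  have hPN : d.P ≤ normalizer (Q₀ : Set X) := by
    rw [← h]
    refine sup_le le_normalizer fun c hc => ?_
    exact center_le_centralizer _ hc.2 |> fun h => Coprime.centralizer_le_normalizer' Q₀ h
  have hgN : (g : X) ∈ normalizer (Q₀ : Set X) := conj_mem_zpowers_normalizer hgQ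
  have hxN : d.x ∈ normalizer (Q₀ : Set X) := by
    apply hxgen
    rw [show d.x ^ m = u⁻¹ * g by rw [hgum]; group]
    exact mul_mem (inv_mem (hPN hu)) hgN
  haveI : Q₀.Normal := normalizer_eq_top_iff.1 (top_le_iff.1 (d.sup_top.symm.le.trans
    (sup_le hPN (zpowers_le.2 hxN))))
  have hle : d.P ≤ Q₀ := by
    calc d.P = ⁅Q₀ ⊔ D, zpowers d.x⁆ := by rw [show Q₀ ⊔ D = d.P from h, d.comm_eq]
      _ ≤ Q₀ := by
        rw [commutator_le]
        intro w hw a _
        obtain ⟨c, hc, z, hz, rfl⟩ :=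
          Coprime.exists_mul_of_mem_sup (A := Q₀) (K := D)
            (fun y _ => conj_mem_zpowers_normalizer fun v hv => by
              rw [mem_center_iff.1 hv.2 y, mul_inv_cancel_right]; exact hv) hw
        have e : ⁅c * z, a⁆ = c * ⁅z, a⁆ * c⁻¹ * ⁅c, a⁆ := by
          simp only [commutatorElement_def]; group
        rw [e, show ⁅z, a⁆ = 1 from commutatorElement_eq_one_iff_commute.2
          (mem_center_iff.1 hz.2 a).symm, mul_one, mul_inv_cancel, one_mul, commutatorElement_def]
        simpa [mul_assoc] using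
          mul_mem hc ((inferInstance : Q₀.Normal).conj_mem _ (inv_mem hc) a)
  apply hK
  rw [← top_le_iff, ← d.sup_top]
  have hPK : d.P ≤ K := fun w hw => (hle hw).2
  refine sup_le hPK (zpowers_le.2 (hxgen _ ?_))
  rw [show d.x ^ m = u⁻¹ * g by rw [hgum]; group]
  exact mul_mem (K.inv_mem (hPK hu)) g.2

end Cfsg.Agent.SchmidtMax
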