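import Cfsg.Agent.SchmidtMax.Basic
import Mathlib

/-!
The module `P/(P ∩ Z(X))` of a minimal non-`p`-nilpotent group, and the order bound.
-/

set_option autoImplicit false
set_option linter.style.haveILetI false
set_option linter.unusedSectionVars false
set_option linter.unusedVariables false

open Subgroup Polynomial
open scoped Pointwise commutatorElement IsMulCommutative

namespace Cfsg.Agent.SchmidtMax

section Poly

variable {p q : ℕ} [hp : Fact p.Prime] [hq : Fact q.Prime] {f : (ZMod p)[X]}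
  [hf : Fact (Irreducible f)]

local notation "𝕂" => AdjoinRoot f
local notation "ζ" => AdjoinRoot.root f

theorem natDegree_eq (hpq : p ≠ q) (hd : f ∣ cyclotomic q (ZMod p)) :
    f.natDegree = orderOf (p : ZMod q) := by
  have hn : p.Coprime q := (Nat.coprime_primes hp.out hq.out).2 hpq
  rw [Polynomial.natDegree_of_dvd_cyclotomic_of_irreducible (f := 1) (p := p) (by simp) hn hd
    hf.out, ← orderOf_units]
  simp

theorem natCard_adjoinRoot : Nat.card 𝕂 = p ^ f.natDegree := by
  have pb := AdjoinRoot.powerBasis hf.out.ne_zero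
  haveI hfin : Module.Finite (ZMod p) (AdjoinRoot f) := (AdjoinRoot.powerBasis hf.out.ne_zero).finite
  have h := Module.natCard_eq_pow_finrank (K := ZMod p) (V := AdjoinRoot f)
  rw [h, (AdjoinRoot.powerBasis hf.out.ne_zero).finrank,
    AdjoinRoot.powerBasis_dim, Nat.card_zmod]

instance finite_adjoinRoot : Finite 𝕂 :=
  Nat.finite_of_card_ne_zero (by rw [natCard_adjoinRoot]; exact pow_ne_zero _ hp.out.ne_zero)

theorem root_isPrimitive (hpq : p ≠ q) (hd : f ∣ cyclotomic q (ZMod p)) :
    IsPrimitiveRoot ζ q := by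
  haveI : NeZero ((q : ℕ) : 𝕂) := ⟨fun h => hpq ((Nat.prime_dvd_prime_iff_eq hp.out hq.out).1 (by
    have : ((q : ZMod p)) = 0 := (algebraMap (ZMod p) 𝕂).injective (by simpa using h)
    exact (ZMod.natCast_eq_zero_iff _ _).1 this))⟩
  rw [← isRoot_cyclotomic_iff]
  obtain ⟨g, hg⟩ := hd
  have h : aeval ζ (cyclotomic q (ZMod p)) = 0 := by
    rw [hg, map_mul, AdjoinRoot.aeval_eq, AdjoinRoot.mk_self, zero_mul]
  rwa [aeval_def, eval₂_eq_eval_map, map_cyclotomic] at h

/-- An additive subgroup containing all powers of the root is everything. -/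
theorem addSubgroup_eq_top (S : AddSubgroup 𝕂) (h : ∀ i : ℕ, ζ ^ i ∈ S) (z : 𝕂) : z ∈ S := by
  induction z using AdjoinRoot.induction_on with
  | _ g =>
    induction g using Polynomial.induction_on' with
    | add a b ha hb => rw [map_add]; exact add_mem ha hb
    | monomial n c =>
      rw [← C_mul_X_pow_eq_monomial, map_mul, map_pow, AdjoinRoot.mk_X, AdjoinRoot.mk_C,
        ← ZMod.natCast_zmod_val c, map_natCast, ← nsmul_eq_mul]
      exact nsmul_mem (h n) _

end Poly

variable {p q r : ℕ} [hp : Fact p.Prime] [hq : Fact q.Prime] {X : Type*} [Group X] [Finite X]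

namespace Datum

variable (d : Datum p q r X)

instance D_normal : ((d.P ⊓ center X).subgroupOf d.P).Normal :=
  ⟨fun a ha b => mem_subgroupOf.2 ⟨(b * a * b⁻¹).2, by
    have h := (mem_subgroupOf.1 ha).2
    push_cast
    rw [mem_center_iff.1 h, mul_inv_cancel_right]
    exact h⟩⟩

/-- `P` modulo its central part. -/
abbrev Quo := ↥d.P ⧸ (d.P ⊓ center X).subgroupOf d.P

instance commGroupQuo : CommGroup d.Quo :=
  { (inferInstance : Group d.Quo) with
    mul_comm := fun a b => by
      induction a using QuotientGroup.induction_on with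
      | _ a =>
        induction b using QuotientGroup.induction_on with
        | _ b =>
          apply commutatorElement_eq_one_iff_commute.1
          refine (QuotientGroup.eq_one_iff _).2 (mem_subgroupOf.2 ⟨(⁅a, b⁆ : d.P).2, ?_⟩)
          exact d.comm_mem a a.2 b b.2 }

/-- The module. -/
abbrev V := Additive d.Quo

/-- The quotient map. -/
abbrev proj (w : d.P) : d.V := Additive.ofMul (w : d.Quo)

theorem proj_surjective (v : d.V) : ∃ w : d.P, d.proj w = v :=
  QuotientGroup.mk_surjective (Additive.toMul v)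

theorem proj_eq_zero {w : d.P} : d.proj w = 0 ↔ (w : X) ∈ center X := by
  show (w : d.Quo) = 1 ↔ _
  rw [QuotientGroup.eq_one_iff, mem_subgroupOf]
  exact ⟨fun h => h.2, fun h => ⟨w.2, h⟩⟩

theorem smul_p_eq_zero (v : d.V) : p • v = 0 := by
  obtain ⟨w, rfl⟩ := d.proj_surjective v
  show d.proj (w ^ p) = 0
  rw [proj_eq_zero]
  simpa using d.pth_mem w w.2

noncomputable instance moduleV : Module (ZMod p) d.V :=
  AddCommGroup.zmodModule d.smul_p_eq_zero

/-- Conjugation by `x` on `P`. -/
noncomputable def conjP : d.P →* d.P where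
  toFun w := ⟨d.x * w * d.x⁻¹, d.normal.conj_mem w w.2 _⟩
  map_one' := by ext; simp
  map_mul' a b := by ext; simp

/-- The action of `x` on the module. -/
noncomputable def T : Module.End (ZMod p) d.V :=
  (MonoidHom.toAdditive (QuotientGroup.map _ ((d.P ⊓ center X).subgroupOf d.P) d.conjP
    (fun w hw => by
      have h := (mem_subgroupOf.1 hw).2
      refine mem_comap.2 (mem_subgroupOf.2 ⟨(d.conjP w).2, ?_⟩)
      show d.x * (w : X) * d.x⁻¹ ∈ center X
      rw [mem_center_iff.1 h, mul_inv_cancel_right]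
      exact h))).toZModLinearMap p

theorem T_proj (w : d.P) : d.T (d.proj w) = d.proj (d.conjP w) := rfl

theorem T_pow_proj (i : ℕ) (w : d.P) :
    (d.T ^ i) (d.proj w) = d.proj ⟨d.x ^ i * w * (d.x ^ i)⁻¹, d.normal.conj_mem w w.2 _⟩ := by
  induction i with
  | zero => simp
  | succ i ih =>
    rw [pow_succ', Module.End.mul_apply, ih, T_proj]
    congr 1
    ext
    simp [conjP, pow_succ', mul_assoc]

theorem T_pow_q : d.T ^ q = 1 := by
  refine LinearMap.ext fun v => ?_
  obtain ⟨w, rfl⟩ := d.proj_surjective v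
  rw [T_pow_proj, Module.End.one_apply]
  congr 1
  ext
  simp [← mem_center_iff.1 d.xq_center (w : X)]

theorem irr_submodule (U : Submodule (ZMod p) d.V) (hU : ∀ u ∈ U, d.T u ∈ U) :
    U = ⊥ ∨ U = ⊤ := by
  let W : Subgroup X :=
    { carrier := {w | ∃ h : w ∈ d.P, d.proj ⟨w, h⟩ ∈ U}
      one_mem' := ⟨one_mem _, by exact U.zero_mem⟩
      mul_mem' := fun {a b} ⟨ha, ha'⟩ ⟨hb, hb'⟩ => ⟨mul_mem ha hb, by exact U.add_mem ha' hb'⟩
      inv_mem' := fun {a} ⟨ha, ha'⟩ => ⟨inv_mem ha, by exact U.neg_mem ha'⟩ }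
  rcases d.irr W (fun w ⟨h, _⟩ => h)
    (fun w hw => ⟨hw.1, by rw [(d.proj_eq_zero (w := ⟨w, hw.1⟩)).2 hw.2]; exact U.zero_mem⟩)
    (fun w ⟨h, h'⟩ => ⟨d.normal.conj_mem w h _, hU _ h'⟩) with h | h
  · left
    rw [eq_bot_iff]
    intro v hv
    obtain ⟨w, rfl⟩ := d.proj_surjective v
    have hw : (w : X) ∈ W := ⟨w.2, hv⟩
    rw [h] at hw
    exact (Submodule.mem_bot _).2 (d.proj_eq_zero.2 hw.2)
  · right
    rw [eq_top_iff]
    intro v _
    obtain ⟨w, rfl⟩ := d.proj_surjective v
    have hw : (w : X) ∈ W := h.symm ▸ w.2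
    exact hw.2

theorem exists_ne_zero : ∃ v : d.V, v ≠ 0 := by
  by_contra! h
  apply d.ne_bot
  rw [← d.comm_eq, commutator_eq_bot_iff_le_centralizer]
  exact fun w hw => center_le_centralizer _ (d.proj_eq_zero.1 (h (d.proj ⟨w, hw⟩)))

theorem T_sub_one_bijective : Function.Bijective (d.T - 1 : Module.End (ZMod p) d.V) := by
  haveI : Finite d.V := inferInstanceAs (Finite d.Quo)
  rw [← Finite.injective_iff_bijective, ← LinearMap.ker_eq_bot]
  refine (d.irr_submodule _ ?_).resolve_right ?_
  · intro u hu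
    rw [LinearMap.mem_ker, LinearMap.sub_apply, Module.End.one_apply, sub_eq_zero] at hu ⊢
    rw [hu]; exact hu
  · intro htop
    apply d.ne_bot
    haveI := d.normal
    have hx : ∀ (i : ℕ) (w : d.P), d.proj ⟨d.x ^ i * w * (d.x ^ i)⁻¹,
        d.normal.conj_mem w w.2 _⟩ = d.proj w := by
      intro i w
      have h1 : d.T = 1 := by
        refine LinearMap.ext fun u => ?_
        have := (LinearMap.ker_eq_top.1 htop)
        rw [sub_eq_zero] at this
        rw [this]
      rw [← T_pow_proj, h1, one_pow, Module.End.one_apply]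
    -- `[P, x]` is central
    have hle : ⁅d.P, zpowers d.x⁆ ≤ d.P ⊓ center X := by
      rw [commutator_le]
      intro w hw z hz
      refine ⟨Coprime.commutator_le_of_le_normalizer le_normalizer_of_normal
        (commutator_mem_commutator hw hz), ?_⟩
      obtain ⟨i, rfl⟩ : ∃ i : ℕ, d.x ^ i = z := mem_powers_iff_mem_zpowers.2 hz
      have h2 := hx i ⟨w, hw⟩
      rw [← sub_eq_zero] at h2
      have h3 : d.proj (⟨d.x ^ i * w * (d.x ^ i)⁻¹, d.normal.conj_mem w hw _⟩ * ⟨w, hw⟩⁻¹) = 0 := by
        rw [← h2, sub_eq_add_neg]; rfl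
      have h4 := inv_mem (d.proj_eq_zero.1 h3)
      show ⁅w, d.x ^ i⁆ ∈ center X
      convert h4 using 1
      simp [commutatorElement_def, mul_assoc]
    rw [← d.comm_eq, commutator_eq_bot_iff_le_centralizer]
    rw [d.comm_eq] at hle
    exact fun w hw => center_le_centralizer _ (hle hw).2

theorem aeval_cyclotomic : aeval d.T (cyclotomic q (ZMod p)) = 0 := by
  rw [cyclotomic_prime, map_sum]
  simp only [aeval_X_pow]
  have h : (∑ i ∈ Finset.range q, d.T ^ i) * (d.T - 1) = 0 := by
    rw [geom_sum_mul, T_pow_q, sub_self]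
  refine LinearMap.ext fun v => ?_
  obtain ⟨u, rfl⟩ := d.T_sub_one_bijective.2 v
  exact LinearMap.congr_fun h u

theorem exists_irreducible_factor :
    ∃ g : (ZMod p)[X], Irreducible g ∧ g ∣ cyclotomic q (ZMod p) ∧ aeval d.T g = 0 := by
  have main : ∀ P : (ZMod p)[X], P ∣ cyclotomic q (ZMod p) →
      ¬ Function.Injective (aeval d.T P) → ∃ g, Irreducible g ∧ g ∣ cyclotomic q (ZMod p) ∧
        ¬ Function.Injective (aeval d.T g) := by
    intro P
    induction P using UniqueFactorizationMonoid.induction_on_prime with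
    | h₁ =>
      intro h
      exact absurd (eq_zero_of_zero_dvd h) (cyclotomic_ne_zero _ _)
    | h₂ u hu =>
      intro _ h
      obtain ⟨w, hw⟩ := hu.map (aeval d.T)
      refine absurd (fun a b e => ?_) h
      rw [← hw] at e
      have := congrArg (↑w⁻¹ : Module.End (ZMod p) d.V) e
      simpa [← Module.End.mul_apply] using this
    | h₃ P g hP hg ih =>
      intro hdvd h
      by_cases hgi : Function.Injective (aeval d.T g)
      · refine ih (dvd_trans (dvd_mul_left _ _) hdvd) fun hPi => h ?_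
        rw [map_mul, Module.End.coe_mul]
        exact hgi.comp hPi
      · exact ⟨g, hg.irreducible, dvd_trans (dvd_mul_right _ _) hdvd, hgi⟩
  obtain ⟨g, hg, hdvd, hgi⟩ := main _ dvd_rfl (by
    rw [d.aeval_cyclotomic]
    intro h
    obtain ⟨v, hv⟩ := d.exists_ne_zero
    exact hv (h (show (0 : Module.End (ZMod p) d.V) v = (0 : Module.End (ZMod p) d.V) 0 from rfl)))
  refine ⟨g, hg, hdvd, LinearMap.ker_eq_top.1 ((d.irr_submodule _ ?_).resolve_left
    fun h => hgi (LinearMap.ker_eq_bot.1 h))⟩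
  intro u hu
  rw [LinearMap.mem_ker] at hu ⊢
  have h : aeval d.T g * d.T = d.T * aeval d.T g := by
    conv_lhs => arg 2; rw [← aeval_X (R := ZMod p) d.T]
    conv_rhs => arg 1; rw [← aeval_X (R := ZMod p) d.T]
    rw [← map_mul, ← map_mul, mul_comm]
  rw [← Module.End.mul_apply, h, Module.End.mul_apply, hu, map_zero]

/-- Replacing `x` by a power prime to `q`. -/
def reindex (k : ℕ) (hk : ¬ q ∣ k) (hxg : zpowers (d.x ^ k) = zpowers d.x) : Datum p q r X where
  P := d.P
  x := d.x ^ k
  normal := d.normal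
  pgroup := d.pgroup
  ne_bot := d.ne_bot
  order_x := by rw [← Nat.card_zpowers, hxg, Nat.card_zpowers, d.order_x]
  sup_top := by rw [hxg, d.sup_top]
  xq_center := by
    rw [← pow_mul, mul_comm, pow_mul]; exact pow_mem d.xq_center k
  comm_eq := by rw [hxg, d.comm_eq]
  comm_mem := d.comm_mem
  pth_mem := d.pth_mem
  irr W hW hDW hinv := d.irr W hW hDW (by
    have hn : d.x ^ k ∈ normalizer (W : Set X) := conj_mem_zpowers_normalizer hinv
    have : d.x ∈ normalizer (W : Set X) :=
      (zpowers_le.2 hn) (hxg.symm ▸ mem_zpowers d.x)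
    exact fun w hw => (mem_normalizer_iff.1 this w).1 hw)

/-- The eigenvalue polynomial is `f`. -/
def Aligned (f : (ZMod p)[X]) : Prop := aeval d.T f = 0

theorem exists_aligned {f : (ZMod p)[X]} [hf : Fact (Irreducible f)] (hpq : p ≠ q)
    (hd : f ∣ cyclotomic q (ZMod p)) :
    ∃ d' : Datum p q r X, d'.P = d.P ∧ d'.Aligned f := by
  obtain ⟨g, hg, hgd, hgT⟩ := d.exists_irreducible_factor
  haveI : Fact (Irreducible g) := ⟨hg⟩
  haveI hfg : Module.Finite (ZMod p) (AdjoinRoot f) :=
    (AdjoinRoot.powerBasis hf.out.ne_zero).finite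
  haveI hgg : Module.Finite (ZMod p) (AdjoinRoot g) :=
    (AdjoinRoot.powerBasis hg.ne_zero).finite
  obtain ⟨φ⟩ := FiniteField.nonempty_algHom_of_finrank_dvd (F := ZMod p) (K := AdjoinRoot g)
    (L := AdjoinRoot f) (by
      rw [(AdjoinRoot.powerBasis hg.ne_zero).finrank, (AdjoinRoot.powerBasis hf.out.ne_zero).finrank,
        AdjoinRoot.powerBasis_dim, AdjoinRoot.powerBasis_dim, natDegree_eq hpq hgd,
        natDegree_eq hpq hd])
  have hμ : IsPrimitiveRoot (φ (AdjoinRoot.root g)) q :=
    (root_isPrimitive hpq hgd).map_of_injective φ.injective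
  have hr0 := root_isPrimitive hpq hd
  haveI : NeZero q := ⟨hq.out.ne_zero⟩
  obtain ⟨k, hkq, hk⟩ := hμ.eq_pow_of_pow_eq_one hr0.pow_eq_one
  have hk0 : k ≠ 0 := by
    rintro rfl
    rw [pow_zero] at hk
    exact hr0.ne_one hq.out.one_lt hk.symm
  have hqk : ¬ q ∣ k := fun h => absurd (Nat.le_of_dvd (by omega) h) (by omega)
  have hxg : zpowers (d.x ^ k) = zpowers d.x := by
    refine eq_of_le_of_card_ge (zpowers_le.2 (npow_mem_zpowers _ _)) (le_of_eq ?_)
    rw [Nat.card_zpowers, Nat.card_zpowers, Nat.Coprime.orderOf_pow]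
    rw [d.order_x]
    exact ((hq.out.coprime_iff_not_dvd.2 hqk).pow_left r)
  refine ⟨d.reindex k hqk hxg, rfl, ?_⟩
  have hdvd : g ∣ f.comp (Polynomial.X ^ k) := by
    rw [← AdjoinRoot.mk_eq_zero, ← AdjoinRoot.aeval_eq, aeval_comp, map_pow, aeval_X]
    have hinj : Function.Injective φ := φ.toRingHom.injective
    apply hinj
    rw [← aeval_algHom_apply, map_pow, hk, AdjoinRoot.aeval_eq, AdjoinRoot.mk_self, map_zero]
  have h0 : aeval d.T (f.comp (Polynomial.X ^ k)) = 0 := by
    obtain ⟨e, he⟩ := hdvd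
    rw [he, map_mul, hgT, zero_mul]
  have hT : (d.reindex k hqk hxg).T = d.T ^ k := by
    refine LinearMap.ext fun v => ?_
    obtain ⟨w, rfl⟩ := d.proj_surjective v
    exact (d.T_pow_proj k w).symm
  unfold Aligned
  rw [hT]
  rw [aeval_comp, map_pow, aeval_X] at h0
  exact h0

section Field

variable {f : (ZMod p)[X]} [hf : Fact (Irreducible f)]

local notation "𝕂" => AdjoinRoot f
local notation "ζ" => AdjoinRoot.root f

/-- The field action. -/
noncomputable def rho (h : d.Aligned f) : 𝕂 →ₐ[ZMod p] Module.End (ZMod p) d.V :=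
  Ideal.Quotient.liftₐ _ (aeval d.T) (fun g hg => by
    obtain ⟨e, rfl⟩ := Ideal.mem_span_singleton.1 hg
    rw [map_mul, h, zero_mul])

theorem rho_mk (h : d.Aligned f) (g : (ZMod p)[X]) :
    d.rho h (AdjoinRoot.mk f g) = aeval d.T g := rfl

theorem rho_root_pow (h : d.Aligned f) (i : ℕ) : d.rho h (ζ ^ i) = d.T ^ i := by
  rw [map_pow]; congr 1; exact (d.rho_mk h Polynomial.X).trans (aeval_X _)

theorem rho_injective (h : d.Aligned f) {z : 𝕂} (hz : z ≠ 0) :
    Function.Injective (d.rho h z) := fun a b e => by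
  have := congrArg (d.rho h z⁻¹) e
  rwa [← Module.End.mul_apply, ← Module.End.mul_apply, ← map_mul, inv_mul_cancel₀ hz, map_one,
    Module.End.one_apply, Module.End.one_apply] at this

/-- Orbit map of a vector. -/
noncomputable def orbit (h : d.Aligned f) (v : d.V) : 𝕂 →ₗ[ZMod p] d.V :=
  (LinearMap.applyₗ v).comp (d.rho h).toLinearMap

theorem orbit_apply (h : d.Aligned f) (v : d.V) (z : 𝕂) : d.orbit h v z = d.rho h z v := rfl

theorem orbit_bijective (h : d.Aligned f) {v : d.V} (hv : v ≠ 0) :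
    Function.Bijective (d.orbit h v) := by
  constructor
  · intro a b e
    by_contra hab
    apply hv
    apply d.rho_injective h (sub_ne_zero.2 hab)
    rw [map_sub, LinearMap.sub_apply, map_zero, ← orbit_apply, ← orbit_apply, e, sub_self]
  · rw [← LinearMap.range_eq_top]
    refine (d.irr_submodule _ ?_).resolve_left fun h0 => hv ?_
    · rintro _ ⟨z, rfl⟩
      refine ⟨ζ ^ 1 * z, ?_⟩
      rw [orbit_apply, map_mul, rho_root_pow, pow_one]
      rfl
    · have hm : d.orbit h v 1 ∈ LinearMap.range (d.orbit h v) := ⟨1, rfl⟩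
      rw [h0, Submodule.mem_bot, orbit_apply, map_one] at hm
      exact hm

theorem card_P (h : d.Aligned f) (hpq : p ≠ q) (hd : f ∣ cyclotomic q (ZMod p)) :
    Nat.card d.P = p ^ orderOf (p : ZMod q) * Nat.card ↥(d.P ⊓ center X) := by
  obtain ⟨v, hv⟩ := d.exists_ne_zero
  rw [← natDegree_eq hpq hd, ← natCard_adjoinRoot,
    Nat.card_congr (Equiv.ofBijective _ (d.orbit_bijective h hv)),
    Subgroup.card_eq_card_quotient_mul_card_subgroup ((d.P ⊓ center X).subgroupOf d.P),
    Nat.card_congr (subgroupOfEquivOfLe inf_le_left).toEquiv]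
  rfl

theorem exists_lift (v : d.V) : ∃ w : d.P, d.proj w = v := d.proj_surjective v

theorem comm_congr {a a' b b' : d.P} (ha : d.proj a = d.proj a') (hb : d.proj b = d.proj b') :
    ⁅(a : X), (b : X)⁆ = ⁅(a' : X), (b' : X)⁆ := by
  have key : ∀ u u' : d.P, d.proj u = d.proj u' → ∃ c ∈ center X, (u' : X) = u * c := by
    intro u u' h
    refine ⟨(u : X)⁻¹ * u', ?_, by group⟩
    have h1 : d.proj (u⁻¹ * u') = 0 := by
      show ((u⁻¹ * u' : d.P) : d.Quo) = 1
      have h2 : (u : d.Quo) = u' := h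
      rw [QuotientGroup.mk_mul, QuotientGroup.mk_inv, h2, inv_mul_cancel]
    exact d.proj_eq_zero.1 h1
  obtain ⟨c, hc, hc'⟩ := key a a' ha
  obtain ⟨e, he, he'⟩ := key b b' hb
  have h1 : ∀ y : X, c * y = y * c := fun y => (mem_center_iff.1 hc y).symm
  have h2 : ∀ y : X, e * y = y * e := fun y => (mem_center_iff.1 he y).symm
  rw [hc', he', commutatorElement_def, commutatorElement_def]
  symm
  calc (a : X) * c * ((b : X) * e) * ((a : X) * c)⁻¹ * ((b : X) * e)⁻¹
      = a * (c * (b * e)) * c⁻¹ * (a : X)⁻¹ * e⁻¹ * (b : X)⁻¹ := by group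
    _ = a * b * (e * (a : X)⁻¹) * e⁻¹ * (b : X)⁻¹ := by rw [h1 ((b : X) * e)]; group
    _ = _ := by rw [h2 (a : X)⁻¹]; group

/-- The commutator pairing. -/
noncomputable def pairing (u v : d.V) : Additive ↥(center X) :=
  Additive.ofMul ⟨⁅((d.exists_lift u).choose : X), ((d.exists_lift v).choose : X)⁆,
    d.comm_mem _ (d.exists_lift u).choose.2 _ (d.exists_lift v).choose.2⟩

theorem pairing_proj (a b : d.P) :
    ((Additive.toMul (d.pairing (d.proj a) (d.proj b)) : center X) : X) = ⁅(a : X), (b : X)⁆ :=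
  d.comm_congr (d.exists_lift _).choose_spec (d.exists_lift _).choose_spec

theorem pairing_ext {a : Additive ↥(center X)} {b : Additive ↥(center X)}
    (h : ((Additive.toMul a : center X) : X) = (Additive.toMul b : center X)) : a = b :=
  Additive.toMul.injective (Subtype.ext h)

theorem pairing_add_left (u u' v : d.V) :
    d.pairing (u + u') v = d.pairing u v + d.pairing u' v := by
  obtain ⟨a, rfl⟩ := d.proj_surjective u
  obtain ⟨a', rfl⟩ := d.proj_surjective u'
  obtain ⟨b, rfl⟩ := d.proj_surjective v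
  refine pairing_ext ?_
  rw [show d.proj a + d.proj a' = d.proj (a * a') from rfl, toMul_add, Subgroup.coe_mul,
    pairing_proj, pairing_proj, pairing_proj, Subgroup.coe_mul]
  have e : ⁅(a : X) * a', (b : X)⁆ = a * ⁅(a' : X), (b : X)⁆ * (a : X)⁻¹ * ⁅(a : X), (b : X)⁆ := by
    simp only [commutatorElement_def]; group
  have hc := d.comm_mem a' a'.2 b b.2
  rw [e, mem_center_iff.1 hc (a : X), mul_inv_cancel_right, ← mem_center_iff.1 hc ⁅(a : X), (b : X)⁆]

theorem pairing_swap (u v : d.V) : d.pairing v u = - d.pairing u v := by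
  obtain ⟨a, rfl⟩ := d.proj_surjective u
  obtain ⟨b, rfl⟩ := d.proj_surjective v
  refine pairing_ext ?_
  rw [toMul_neg, Subgroup.coe_inv, pairing_proj, pairing_proj, commutatorElement_inv]

theorem pairing_self (u : d.V) : d.pairing u u = 0 := by
  obtain ⟨a, rfl⟩ := d.proj_surjective u
  refine pairing_ext ?_
  rw [pairing_proj, commutatorElement_self]
  rfl

theorem pairing_add_right (u v v' : d.V) :
    d.pairing u (v + v') = d.pairing u v + d.pairing u v' := by
  rw [d.pairing_swap (v + v') u, pairing_add_left, neg_add, ← d.pairing_swap v u,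
    ← d.pairing_swap v' u]

/-- The pairing as a bilinear map. -/
noncomputable def bil : d.V →+ d.V →+ Additive ↥(center X) :=
  AddMonoidHom.mk' (fun u => AddMonoidHom.mk' (d.pairing u) (d.pairing_add_right u))
    (fun u u' => AddMonoidHom.ext (d.pairing_add_left u u'))

theorem bil_apply (u v : d.V) : d.bil u v = d.pairing u v := rfl

theorem pairing_T (u v : d.V) : d.pairing (d.T u) (d.T v) = d.pairing u v := by
  obtain ⟨a, rfl⟩ := d.proj_surjective u
  obtain ⟨b, rfl⟩ := d.proj_surjective v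
  rw [T_proj, T_proj]
  refine pairing_ext ?_
  rw [pairing_proj, pairing_proj]
  show ⁅d.x * a * d.x⁻¹, d.x * (b : X) * d.x⁻¹⁆ = _
  rw [show ⁅d.x * a * d.x⁻¹, d.x * (b : X) * d.x⁻¹⁆ = d.x * ⁅(a : X), (b : X)⁆ * d.x⁻¹ by
    simp only [commutatorElement_def]; group,
    mem_center_iff.1 (d.comm_mem a a.2 b b.2) d.x, mul_inv_cancel_right]

theorem pairing_T_pow (u v : d.V) (i : ℕ) :
    d.pairing ((d.T ^ i) u) ((d.T ^ i) v) = d.pairing u v := by
  induction i with
  | zero => simp
  | succ i ih => rw [pow_succ', Module.End.mul_apply, Module.End.mul_apply, pairing_T, ih]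

theorem pairing_T_left (u v : d.V) (i : ℕ) :
    d.pairing ((d.T ^ i) u) v = d.pairing u ((d.T ^ (i * (q - 1))) v) := by
  conv_lhs => rw [← d.pairing_T_pow _ _ (i * (q - 1))]
  rw [← Module.End.mul_apply, ← pow_add]
  have : i * (q - 1) + i = q * i := by
    rw [← Nat.mul_add_one, Nat.sub_add_cancel hq.out.one_le, mul_comm]
  rw [this, pow_mul, T_pow_q, one_pow, Module.End.one_apply]

theorem pairing_transpose (h : d.Aligned f) (z : 𝕂) (σ : 𝕂 →+ 𝕂)
    (hσ : ∀ i : ℕ, σ (ζ ^ i) = ζ ^ (i * (q - 1))) (u v : d.V) :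
    d.pairing (d.rho h z u) v = d.pairing u (d.rho h (σ z) v) := by
  let S : AddSubgroup 𝕂 :=
    ((d.bil.flip v).comp ((LinearMap.applyₗ u).comp (d.rho h).toLinearMap).toAddMonoidHom -
      (d.bil u).comp (((LinearMap.applyₗ v).comp (d.rho h).toLinearMap).toAddMonoidHom.comp σ)).ker
  have hz : z ∈ S := addSubgroup_eq_top S (fun i => by
    rw [AddMonoidHom.mem_ker, AddMonoidHom.sub_apply, sub_eq_zero]
    show d.pairing (d.rho h (ζ ^ i) u) v = d.pairing u (d.rho h (σ (ζ ^ i)) v)
    rw [hσ, rho_root_pow, rho_root_pow, pairing_T_left]) z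
  rw [AddMonoidHom.mem_ker, AddMonoidHom.sub_apply, sub_eq_zero] at hz
  exact hz

/-- The bound on the range of `z ↦ c(v, z v)`. -/
theorem card_range_le (h : d.Aligned f) (hpq : p ≠ q) (hd : f ∣ cyclotomic q (ZMod p))
    {v : d.V} (hv : v ≠ 0) :
    (Nat.card ((d.bil v).comp (d.orbit h v).toAddMonoidHom).range) *
      p ^ orderOf (p : ZMod q) ≤
      p ^ (if orderOf (p : ZMod q) % 2 = 1 then orderOf (p : ZMod q)
        else 3 * orderOf (p : ZMod q) / 2) := by
  set a := orderOf (p : ZMod q) with ha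
  set φ := (d.bil v).comp (d.orbit h v).toAddMonoidHom with hφdef
  have hφ : ∀ z, φ z = d.pairing v (d.rho h z v) := fun _ => rfl
  have hzero : ∀ i : ℕ, φ (ζ ^ i) + φ (ζ ^ (i * (q - 1))) = 0 := by
    intro i
    rw [hφ, hφ, rho_root_pow, rho_root_pow, ← d.pairing_T_left v v i, d.pairing_swap]
    exact neg_add_cancel _
  have hK : Nat.card 𝕂 = p ^ a := by rw [natCard_adjoinRoot, natDegree_eq hpq hd]
  have hprim := root_isPrimitive hpq hd
  rcases Nat.mod_two_eq_zero_or_one a with he | ho
  · obtain ⟨b, hb⟩ : 2 ∣ a := Nat.dvd_of_mod_eq_zero he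
    rw [if_neg (by omega), show 3 * a / 2 = b + a by omega, pow_add]
    refine Nat.mul_le_mul_right _ ?_
    have hp0 : (p : ZMod q) ≠ 0 := fun h => hpq
      ((Nat.prime_dvd_prime_iff_eq hq.out hp.out).1 ((ZMod.natCast_eq_zero_iff _ _).1 h)).symm
    have ha0 : 0 < a := ha ▸ orderOf_pos_iff.2 (isOfFinOrder_iff_pow_eq_one.2
      ⟨q - 1, Nat.sub_pos_of_lt hq.out.one_lt, ZMod.pow_card_sub_one_eq_one hp0⟩)
    haveI : CharP 𝕂 p := charP_of_injective_algebraMap (algebraMap (ZMod p) 𝕂).injective p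
    haveI : ExpChar 𝕂 p := ExpChar.prime hp.out
    let σ : 𝕂 →+ 𝕂 := (iterateFrobenius 𝕂 p b).toAddMonoidHom
    have hσ : ∀ i : ℕ, σ (ζ ^ i) = ζ ^ (i * (q - 1)) := by
      intro i
      show iterateFrobenius 𝕂 p b (ζ ^ i) = _
      rw [iterateFrobenius_def, ← pow_mul]
      refine pow_eq_pow_of_modEq ?_ hprim.pow_eq_one
      refine Nat.ModEq.mul_left i ?_
      rw [← ZMod.natCast_eq_natCast_iff, Nat.cast_pow, Nat.cast_sub hq.out.one_le, ZMod.natCast_self,
        Nat.cast_one, zero_sub]
      have h2 : ((p : ZMod q) ^ b) * ((p : ZMod q) ^ b) = 1 := by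
        rw [← pow_add, ← two_mul, ← hb, ha, pow_orderOf_eq_one]
      refine (mul_self_eq_one_iff.1 h2).resolve_left fun h1 => ?_
      have := orderOf_dvd_of_pow_eq_one h1
      rw [← ha] at this
      have := Nat.le_of_dvd (by omega) this
      omega
    -- the trace
    let tr : 𝕂 →+ 𝕂 := AddMonoidHom.id 𝕂 + σ
    have hle : tr.range ≤ φ.ker := by
      rintro _ ⟨z, rfl⟩
      have : z ∈ (φ.comp tr).ker := addSubgroup_eq_top _ (fun i => by
        rw [AddMonoidHom.mem_ker, AddMonoidHom.comp_apply]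
        show φ (ζ ^ i + σ (ζ ^ i)) = 0
        rw [map_add, hσ, hzero]) z
      exact this
    have hker : Nat.card tr.ker ≤ p ^ b := by
      classical
      let P : Polynomial 𝕂 := Polynomial.X ^ p ^ b + Polynomial.X
      have h1 : 1 < p ^ b := Nat.one_lt_pow (by omega) hp.out.one_lt
      have hP : P.natDegree = p ^ b := by
        rw [natDegree_add_eq_left_of_natDegree_lt (by rw [natDegree_X_pow, natDegree_X]; exact h1),
          natDegree_X_pow]
      have hP0 : P ≠ 0 := fun e => by rw [e, natDegree_zero] at hP; omega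
      calc Nat.card tr.ker ≤ Nat.card P.roots.toFinset := by
            refine Nat.card_le_card_of_injective
              (fun z => ⟨(z : 𝕂), ?_⟩) (fun z w e => Subtype.ext (congrArg Subtype.val e :))
            rw [Multiset.mem_toFinset, mem_roots hP0, IsRoot, eval_add, eval_pow, eval_X,
              ← iterateFrobenius_def]
            have hz : (z : 𝕂) + σ z = 0 := z.2
            rw [add_comm]
            exact hz
        _ ≤ P.natDegree := by
            rw [Nat.card_eq_finsetCard]
            exact (Multiset.toFinset_card_le _).trans (card_roots' P)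
        _ = p ^ b := hP
    have h1 := AddSubgroup.card_eq_card_quotient_mul_card_addSubgroup tr.ker
    rw [Nat.card_congr (QuotientAddGroup.quotientKerEquivRange tr).toEquiv, hK, hb, two_mul,
      pow_add] at h1
    have h2 := AddSubgroup.card_eq_card_quotient_mul_card_addSubgroup φ.ker
    rw [Nat.card_congr (QuotientAddGroup.quotientKerEquivRange φ).toEquiv, hK, hb, two_mul,
      pow_add] at h2
    have h3 := Nat.le_of_dvd Nat.card_pos (AddSubgroup.card_dvd_of_le hle)
    have h4 : p ^ b ≤ Nat.card tr.range :=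
      Nat.le_of_mul_le_mul_right (h1.le.trans (Nat.mul_le_mul_left _ hker)) (pow_pos hp.out.pos _)
    exact Nat.le_of_mul_le_mul_right
      ((Nat.mul_le_mul_left _ (h4.trans h3)).trans h2.ge) (pow_pos hp.out.pos _)
  · rw [if_pos ho]
    refine (Nat.mul_le_mul_right _ ?_).trans (one_mul _).le
    suffices hz : φ = 0 by
      rw [hz, AddMonoidHom.range_zero, AddSubgroup.card_bot]
    let e : 𝕂 := aeval (ζ ^ (q - 1)) f
    by_cases he : e = 0
    · -- `ζ⁻¹` is conjugate to `ζ`, hence equal to it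
      let σ : 𝕂 →ₐ[ZMod p] 𝕂 := AdjoinRoot.liftAlgHom f (Algebra.ofId _ _) (ζ ^ (q - 1)) he
      have hσr : σ ζ = ζ ^ (q - 1) := AdjoinRoot.liftAlgHom_root _ _ _ _
      have hinv : ζ ^ (q - 1) = ζ⁻¹ := eq_inv_of_mul_eq_one_left (by
        rw [← pow_succ, Nat.sub_add_cancel hq.out.one_le, hprim.pow_eq_one])
      let σe : 𝕂 ≃ₐ[ZMod p] 𝕂 := AlgEquiv.ofBijective σ (Finite.injective_iff_bijective.1 σ.injective)
      haveI hfin : Module.Finite (ZMod p) 𝕂 := (AdjoinRoot.powerBasis hf.out.ne_zero).finite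
      have hsq : σe ^ 2 = 1 := by
        refine AlgEquiv.ext fun z => ?_
        show σ (σ z) = z
        have : σ.comp σ = AlgHom.id (ZMod p) 𝕂 := AdjoinRoot.algHom_ext (by
          show σ (σ ζ) = ζ
          rw [hσr, hinv, map_inv₀, hσr, hinv, inv_inv])
        exact DFunLike.congr_fun this z
      have hcard : Nat.card (𝕂 ≃ₐ[ZMod p] 𝕂) = a := by
        rw [IsGalois.card_aut_eq_finrank, (AdjoinRoot.powerBasis hf.out.ne_zero).finrank,
          AdjoinRoot.powerBasis_dim, natDegree_eq hpq hd]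
      have h1 : orderOf σe = 1 := Nat.eq_one_of_dvd_coprimes
        (Nat.coprime_two_left.2 (Nat.odd_iff.2 ho))
        (orderOf_dvd_of_pow_eq_one hsq) (hcard ▸ orderOf_dvd_natCard σe)
      have h2 : ζ = ζ⁻¹ := by
        rw [← hinv, ← hσr]
        exact (DFunLike.congr_fun (orderOf_eq_one_iff.1 h1) ζ).symm
      have h3 : ζ * ζ = 1 := by
        nth_rewrite 2 [h2]
        exact mul_inv_cancel₀ (hprim.ne_zero hq.out.ne_zero)
      have h0 : φ 1 = 0 := by rw [hφ, map_one, Module.End.one_apply, pairing_self]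
      refine AddMonoidHom.ext fun z => ?_
      refine addSubgroup_eq_top φ.ker (fun i => ?_) z
      rw [AddMonoidHom.mem_ker]
      rcases mul_self_eq_one_iff.1 h3 with h4 | h4 <;> rw [h4]
      · rw [one_pow, h0]
      · rcases neg_one_pow_eq_or 𝕂 i with h5 | h5 <;> rw [h5]
        · exact h0
        · rw [map_neg, h0, neg_zero]
    · refine AddMonoidHom.ext fun z => ?_
      show φ z = 0
      let σ : 𝕂 →+ 𝕂 := AddMonoidHom.id 𝕂
      rw [hφ]
      obtain ⟨w, hw⟩ : ∃ w, d.rho h e w = d.rho h z v :=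
        ⟨d.rho h (e⁻¹ * z) v, by
          rw [← Module.End.mul_apply, ← map_mul, ← mul_assoc, mul_inv_cancel₀ he, one_mul]⟩
      rw [← hw]
      -- `c(P(T) u, w) = c(u, P(T^{q-1}) w)`
      have key : ∀ g : (ZMod p)[X], d.pairing (d.rho h (AdjoinRoot.mk f g) v) w =
          d.pairing v (d.rho h (aeval (ζ ^ (q - 1)) g) w) := by
        intro g
        induction g using Polynomial.induction_on' with
        | add a b ha hb =>
          rw [map_add, map_add, map_add, LinearMap.add_apply, pairing_add_left, ha, hb,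
            map_add, LinearMap.add_apply, pairing_add_right]
        | monomial n c =>
          rw [← C_mul_X_pow_eq_monomial, ← ZMod.natCast_zmod_val c, map_natCast, ← nsmul_eq_mul,
            map_nsmul, map_nsmul, map_nsmul, map_nsmul, aeval_X_pow, map_pow (AdjoinRoot.mk f),
            AdjoinRoot.mk_X,
            ← pow_mul, rho_root_pow, rho_root_pow, LinearMap.smul_apply, LinearMap.smul_apply,
            ← bil_apply, ← bil_apply, map_nsmul, AddMonoidHom.nsmul_apply, map_nsmul, bil_apply,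
            bil_apply, pairing_T_left, mul_comm n]
      have h5 := key f
      rw [AdjoinRoot.mk_self, map_zero, LinearMap.zero_apply, ← bil_apply, map_zero,
        AddMonoidHom.zero_apply] at h5
      exact h5.symm

end Field

/-- The order bound. -/
theorem card_P_le {f : (ZMod p)[X]} [hf : Fact (Irreducible f)] (h : d.Aligned f) (hpq : p ≠ q)
    (hd : f ∣ cyclotomic q (ZMod p)) :
    Nat.card d.P ≤ p ^ (if orderOf (p : ZMod q) % 2 = 1 then orderOf (p : ZMod q)
      else 3 * orderOf (p : ZMod q) / 2) := by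
  obtain ⟨v, hv⟩ := d.exists_ne_zero
  set φ := (d.bil v).comp (d.orbit h v).toAddMonoidHom with hφdef
  -- every commutator lies in the range of `φ`
  have hall : ∀ u w, d.pairing u w ∈ φ.range := by
    intro u w
    obtain ⟨z, rfl⟩ := (d.orbit_bijective h hv).2 u
    let S : AddSubgroup (AdjoinRoot f) :=
      φ.range.comap ((d.bil.flip w).comp (d.orbit h v).toAddMonoidHom)
    exact addSubgroup_eq_top S (fun i => by
      rw [AddSubgroup.mem_comap]
      show d.pairing (d.rho h (AdjoinRoot.root f ^ i) v) w ∈ φ.range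
      rw [rho_root_pow, pairing_T_left]
      obtain ⟨y, hy⟩ := (d.orbit_bijective h hv).2 ((d.T ^ (i * (q - 1))) w)
      exact ⟨y, by rw [← hy]; rfl⟩) z
  let A : Subgroup ↥(center X) :=
    { carrier := {c | Additive.ofMul c ∈ φ.range}
      one_mem' := φ.range.zero_mem
      mul_mem' := fun {a b} ha hb => φ.range.add_mem ha hb
      inv_mem' := fun {a} ha => φ.range.neg_mem ha }
  let M : Subgroup X := A.map (center X).subtype
  haveI := d.normal
  haveI hMn : M.Normal := ⟨fun c hc g => by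
    obtain ⟨c', hc', rfl⟩ := hc
    rw [Subgroup.subtype_apply, mem_center_iff.1 c'.2 g, mul_inv_cancel_right]
    exact ⟨c', hc', rfl⟩⟩
  have hM : Nat.card M = Nat.card φ.range :=
    (card_map_of_injective (center X).subtype_injective).trans
      (Nat.card_congr
        { toFun := fun c => ⟨Additive.ofMul (c : ↥(center X)), c.2⟩
          invFun := fun c => ⟨Additive.toMul (c : Additive ↥(center X)), c.2⟩
          left_inv := fun _ => rfl
          right_inv := fun _ => rfl })
  have hPM : ∀ a ∈ d.P, ∀ b ∈ d.P, ⁅a, b⁆ ∈ M := fun a ha b hb =>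
    ⟨_, hall (d.proj ⟨a, ha⟩) (d.proj ⟨b, hb⟩), d.pairing_proj ⟨a, ha⟩ ⟨b, hb⟩⟩
  -- modulo `M` the group `P` is abelian, so `C_P(x)` and `[P, x] = P` meet trivially
  have hDM : d.P ⊓ center X ≤ M := by
    let π := QuotientGroup.mk' M
    haveI hVc : IsMulCommutative (d.P.map π : Subgroup (X ⧸ M)) := ⟨⟨by
      rintro ⟨_, a, ha, rfl⟩ ⟨_, b, hb, rfl⟩
      refine Subtype.ext ?_
      show π a * π b = π b * π a
      rw [← commutatorElement_eq_one_iff_mul_comm, ← map_commutatorElement]
      exact (QuotientGroup.eq_one_iff _).2 (hPM a ha b hb)⟩⟩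
    have hn : (zpowers d.x).map π ≤ normalizer ((d.P.map π : Subgroup (X ⧸ M)) : Set (X ⧸ M)) := by
      haveI : (d.P.map π).Normal := Subgroup.Normal.map d.normal π (QuotientGroup.mk'_surjective M)
      exact le_normalizer_of_normal
    have hcop : (Nat.card ((zpowers d.x).map π)).Coprime (Nat.card (d.P.map π)) :=
      ((coprime_card_zpowers hpq d.pgroup d.order_x).coprime_dvd_left
        (card_map_dvd _ _)).coprime_dvd_right (card_map_dvd _ _)
    have hbot := Coprime.centralizer_inf_commutator_eq_bot hn hcop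
    rw [← map_commutator, d.comm_eq] at hbot
    intro c hc
    have hc' : π c ∈ (⊥ : Subgroup (X ⧸ M)) := by
      rw [← hbot]
      refine ⟨⟨mem_map_of_mem _ hc.1, ?_⟩, mem_map_of_mem _ hc.1⟩
      rintro _ ⟨z, _, rfl⟩
      rw [← map_mul, ← map_mul, mem_center_iff.1 hc.2 z]
    exact (QuotientGroup.eq_one_iff c).1 hc'
  rw [d.card_P h hpq hd]
  have h1 := Nat.le_of_dvd Nat.card_pos (card_dvd_of_le hDM)
  rw [hM] at h1
  rw [mul_comm]
  exact (Nat.mul_le_mul_right _ h1).trans (d.card_range_le h hpq hd hv)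

end Datum

end Cfsg.Agent.SchmidtMax
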